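import Cfsg.Agent.Lib.Hall.FpfF

/-! Symplectic sections of class two groups under coprime cyclic groups (towards Turull's theorem). -/

set_option autoImplicit false
set_option linter.unusedSectionVars false

namespace Cfsg.Lib.Tur
open Subgroup Cfsg.Lib.Core Cfsg.Lib.Amalg Cfsg.Lib.BG1 Cfsg.Lib.Clifford Cfsg.Lib.Char Cfsg.Lib.Hall
open scoped commutatorElement ComplexConjugate IsMulCommutative

variable {G : Type*} [Group G] [Finite G] {A A0 B D E K L N P Q R T U V W X Y Z0 : Subgroup G} {χ θ φ ψ η : G → ℂ}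
  {p r : ℕ}

theorem deg_le_sum [IsMulCommutative A] (hψ : CharOn A ψ) :
    (charDegree ψ : ℝ) * Nat.card A ≤ ∑ a ∈ elems A, ‖ψ a‖ ^ 2 := by
  have hm : ∀ θ ∈ Irr A, dot A ψ θ = mult A ψ θ := fun θ hθ => hψ.dot_eq_mult (irrOn_of_mem hθ).charOn
  have h1 : dot A ψ ψ = ((∑ θ ∈ Irr A, mult A ψ θ ^ 2 : ℕ) : ℂ) := by
    rw [hψ.classOn.dot_eq_sum', Nat.cast_sum]
    exact Finset.sum_congr rfl fun θ hθ => by rw [hm θ hθ]; simp [sq]
  have h2 : ψ 1 = ((∑ θ ∈ Irr A, mult A ψ θ : ℕ) : ℂ) := by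
    rw [hψ.classOn.eq_sum A.one_mem, Nat.cast_sum]
    exact Finset.sum_congr rfl fun θ hθ => by
      rw [hm θ hθ, (irrOn_of_mem hθ).degree_one_of_comm fun a ha b hb => Coprime.mul_comm_of_mem ha hb, mul_one]
  rw [dot_self_eq] at h1
  have h3 : (Nat.card A : ℝ)⁻¹ * ∑ a ∈ elems A, ‖ψ a‖ ^ 2 = ((∑ θ ∈ Irr A, mult A ψ θ ^ 2 : ℕ) : ℝ) := by
    exact_mod_cast h1
  have hc : (0 : ℝ) < Nat.card A := Nat.cast_pos.2 Nat.card_pos
  rw [inv_mul_eq_iff_eq_mul₀ hc.ne'] at h3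
  rw [h3, charDegree_of_eq h2, mul_comm]
  refine mul_le_mul_of_nonneg_left (Nat.cast_le.2 (Finset.sum_le_sum fun θ _ => ?_)) hc.le
  exact Nat.le_self_pow two_ne_zero _

theorem d2 (h2 : ⁅Q, Q⁆ ≤ 𝐂(Q)) (hθ : IrrOn Q θ) (hA : IsCyclic A) (hn : A ≤ 𝐍(Q))
    (hc : (Nat.card A).Coprime (Nat.card Q)) (hi : InvOn A Q θ) (h0 : A0 ≤ A)
    (h : ∀ a ∈ A, a ∉ A0 → Q ⊓ centralizer {a} ≤ zc Q θ) : charDegree θ = 1 ∨ A0.relIndex A ≤ charDegree θ + 1 := by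
  classical
  haveI := PGrp.isMulCommutative_of_isCyclic hA
  have hN : Nrm (Q ⊔ A) Q := nrm_of_le_normalizer (sup_le le_normalizer hn)
  obtain ⟨η, hη, e⟩ := exists_ext_of_isCyclic (sup_comm A Q) hN hθ
    (Coprime.invOn_sup (nrm_self Q) (nrm_of_le_normalizer hn) hθ.classOn hi)
  have hη' := (irrOn_of_mem hη).charOn
  have hηQ : IrrOn Q η := hθ.congr fun x hx => (e x hx).symm
  have e1 : η 1 = charDegree θ := (e 1 Q.one_mem).trans hθ.one_eq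
  set d := charDegree θ
  have h1 := (deg_le_sum (hη'.mono le_sup_right)).trans (Finset.sum_le_sum
    (g := fun a => 1 + if a ∈ A0 then (d : ℝ) ^ 2 - 1 else 0) fun a ha => by
      have ha := mem_elems.1 ha
      split_ifs with h3
      · have := hη'.norm_le (mem_sup_right ha)
        rw [e1, Complex.norm_natCast] at this
        have := pow_le_pow_left₀ (norm_nonneg _) this 2
        linarith
      · rw [fa_norm_eq_one h2 le_sup_left hN hη' hηQ (mem_sup_right ha)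
          (hc.coprime_dvd_left (A.orderOf_dvd_natCard ha)) (zc_congr e ▸ h a ha h3)]
        simp)
  have e2 : (elems A).filter (· ∈ A0) = elems A0 := by
    ext x; simp only [Finset.mem_filter, mem_elems]; exact ⟨fun h => h.2, fun h => ⟨h0 h, h⟩⟩
  rw [Finset.sum_add_distrib, ← Finset.sum_filter, e2, Finset.sum_const, Finset.sum_const, card_elems, card_elems,
    charDegree_of_eq e1, ← Clifford.card_mul_relIndex h0] at h1
  simp only [nsmul_eq_mul, Nat.cast_mul, mul_one] at h1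
  have hc0 : (0 : ℝ) < Nat.card A0 := Nat.cast_pos.2 Nat.card_pos
  have h3 : (d : ℝ) * A0.relIndex A ≤ A0.relIndex A + (d ^ 2 - 1) := by
    refine le_of_mul_le_mul_left ?_ hc0
    linarith
  have hd : 0 < d := hθ.deg_pos
  by_contra h4
  push Not at h4
  have h5 : (2 : ℝ) ≤ d := by exact_mod_cast (by omega : 2 ≤ d)
  have h6 : (d : ℝ) + 2 ≤ A0.relIndex A := by exact_mod_cast h4.2
  nlinarith

theorem invOn_of_zc (h2 : ⁅X, X⁆ ≤ 𝐂(X)) (hφ : IrrOn X φ) (hn : A ≤ 𝐍(X)) (hz : A ≤ 𝐍(zc X φ))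
    (h : ⁅zc X φ, A⁆ ≤ kerOn X φ) : InvOn A X φ := fun a ha x hx => by
  by_cases hx' : x ∈ zc X φ
  · have h1 := hφ.charOn.mem_kerOn.1 (h (commutator_comm A _ ▸ commutator_mem_commutator ha hx'))
    rw [← hφ.charOn.mul_of_eq h1.1 h1.2 hx, commutatorElement_def, inv_mul_cancel_right]
  · rw [zc_vanish h2 hφ hx hx', zc_vanish h2 hφ (Coprime.conj_mem hn ha hx) fun e =>
      hx' (((nrm_of_le_normalizer hz).mem_iff ha x).1 e)]

/-- the radical of the commutator form modulo `Z0` -/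
def rad (Z0 P : Subgroup G) : Subgroup G := P ⊓ centQuo Z0 P

theorem rad_le : rad Z0 P ≤ P := inf_le_left

theorem le_norm_rad (h : A ≤ 𝐍(P)) (h' : A ≤ 𝐍(Z0)) : A ≤ 𝐍(rad Z0 P) :=
  le_normalizer_inf h (le_norm_centQuo h' h)

theorem le_rad_iff (hn : P ≤ 𝐍(Z0)) (hX : X ≤ P) : X ≤ rad Z0 P ↔ ⁅P, X⁆ ≤ Z0 := by
  rw [rad, le_inf_iff, and_iff_right hX, le_centQuo_iff hn (hX.trans hn)]

structure Sy (p : ℕ) (P Z0 E : Subgroup G) (χ : G → ℂ) : Prop where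
  hp : p.Prime
  hP : IsPGroup p P
  h2 : ⁅P, P⁆ ≤ 𝐂(P)
  hZ : Z0 ≤ ⁅P, P⁆
  hZE : Z0 ≤ E
  hE : E ≤ P
  hχ : CharOn P χ
  h1 : χ 1 ≠ 0
  ht : Triv E χ
  hz : ∀ z ∈ ⁅P, P⁆, z ∉ Z0 → dot (zpowers z) χ 1 = 0

theorem cl2_mono (h2 : ⁅P, P⁆ ≤ 𝐂(P)) (hX : X ≤ P) : ⁅X, X⁆ ≤ 𝐂(X) :=
  (commutator_mono hX hX).trans (h2.trans (centralizer_le hX))

namespace Sy
variable (h : Sy p P Z0 E χ)
include h

theorem hn : P ≤ 𝐍(Z0) := le_norm_of_le_cent (BG1.le_cent_symm (h.hZ.trans h.h2))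

theorem sol : Group.IsSolvable P := solvable_of_pgroup h.hp h.hP

theorem der_le : ⁅P, P⁆ ≤ rad Z0 P :=
  (le_rad_iff h.hn (Subgroup.commutator_le_self P)).2
    ((commutator_eq_bot_iff_le_centralizer.2 (BG1.le_cent_symm h.h2)).le.trans bot_le)

theorem norm_rad : P ≤ 𝐍(rad Z0 P) := le_norm_rad le_normalizer h.hn

theorem comm_rad : ⁅P, rad Z0 P⁆ ≤ Z0 := (le_rad_iff h.hn rad_le).1 le_rfl

theorem normZ (hB : ⁅⁅P, P⁆, B⁆ ≤ Z0) : B ≤ 𝐍(Z0) :=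
  le_norm_of_commutator_le ((commutator_mono h.hZ le_rfl).trans hB)

theorem ker (hX : X ≤ P) (hφ : IrrOn X φ) (hd : dot X χ φ ≠ 0) : E ⊓ X ≤ kerOn X φ :=
  (hφ.charOn.le_kerOn inf_le_right).2 ((h.ht.mono inf_le_left).of_dot (h.hχ.mono hX) inf_le_right hφ hd)

theorem zc_eq (hX : X ≤ P) (hφ : IrrOn X φ) (hd : dot X χ φ ≠ 0) : zc X φ = rad Z0 X := by
  have h2 := cl2_mono h.h2 hX
  have hn := hX.trans h.hn
  refine le_antisymm ((le_rad_iff hn zc_le).2 fun z hz => ?_) ((le_zc_iff h2 rad_le).2 ?_)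
  · by_contra hz'
    have h3 := (le_zc_iff h2 zc_le).1 le_rfl hz
    have h4 : zpowers z ≤ X := zpowers_le.2 h3.1
    refine CharOn.dot_ne_zero_trans h4 (h.hχ.mono hX) hφ (charOn_one _) hd ?_
      (h.hz z (commutator_mono hX (zc_le.trans hX) hz) hz')
    rw [(triv_kerOn.mono (zpowers_le.2 h3)).dot_one]
    exact hφ.one_ne_zero
  · exact (le_inf (((le_rad_iff hn rad_le).1 le_rfl).trans h.hZE)
      (commutator_le_left_of_norm (rad_le.trans le_normalizer))).trans (h.ker hX hφ hd)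

theorem cent_comm (hX : X ≤ P) (hB : B ≤ 𝐍(X)) (hBZ : ⁅⁅P, P⁆, B⁆ ≤ Z0) : ⁅⁅X, B⁆, X ⊓ 𝐂(B)⁆ ≤ Z0 := by
  refine PGrp.three_subgroups_of_le_normalizer (hX.trans h.hn) (h.normZ hBZ) ((inf_le_left.trans hX).trans h.hn) ?_
    ((commutator_mono (commutator_mono (inf_le_left.trans hX) hX) le_rfl).trans hBZ)
  rw [commutator_eq_bot_iff_le_centralizer.2 (BG1.le_cent_symm inf_le_right), commutator_bot_left]
  exact bot_le

theorem nd (hX : X ≤ P) (hd : rad Z0 X ≤ rad Z0 P) (hB : B ≤ 𝐍(X)) (hc : (Nat.card B).Coprime (Nat.card X))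
    (hBZ : ⁅⁅P, P⁆, B⁆ ≤ Z0) : rad Z0 ⁅X, B⁆ ≤ rad Z0 P := by
  have h1 : ⁅X, B⁆ ≤ X := commutator_le_left_of_norm hB
  have hn := hX.trans h.hn
  have h2 : rad Z0 ⁅X, B⁆ ≤ X := rad_le.trans h1
  refine le_trans ((le_rad_iff hn h2).2 ?_) hd
  rw [commutator_comm]
  refine commutator_le_of_le_centQuo (h2.trans hn) ?_
  refine (Coprime.commutator_sup_centralizer hB hc (Or.inr (solvable_of_le hX h.sol))).ge.trans (sup_le ?_ ?_)
  · exact le_centQuo (h2.trans hn) (h1.trans hn) ((commutator_comm _ _).le.trans ((le_rad_iff (h1.trans hn) rad_le).1 le_rfl))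
  · exact le_centQuo (h2.trans hn) (inf_le_left.trans hn) ((commutator_mono rad_le le_rfl).trans (h.cent_comm hX hB hBZ))

theorem rad_eq (hX : X ≤ P) (hd : rad Z0 X ≤ rad Z0 P) : rad Z0 X = rad Z0 P ⊓ X :=
  le_antisymm (le_inf hd rad_le) ((le_rad_iff (hX.trans h.hn) inf_le_right).2
    ((commutator_mono hX inf_le_left).trans h.comm_rad))

theorem exists_irr (hX : X ≤ P) (hd : rad Z0 X ≤ rad Z0 P) : ∃ φ, IrrOn X φ ∧ dot X χ φ ≠ 0 ∧ zc X φ = rad Z0 P ⊓ X ∧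
    charDegree φ ^ 2 = (rad Z0 P).relIndex X := by
  obtain ⟨φ, hφ, h1⟩ := (h.hχ.mono hX).exists_constituent h.h1
  have hφ := irrOn_of_mem hφ
  have e := (h.zc_eq hX hφ h1).trans (h.rad_eq hX hd)
  exact ⟨φ, hφ, h1, e, by rw [zc_deg_sq (cl2_mono h.h2 hX) hφ, e, inf_relIndex_right]⟩

theorem invOn (hX : X ≤ P) (hd : rad Z0 X ≤ rad Z0 P) (hφ : IrrOn X φ) (h1 : dot X χ φ ≠ 0) (hAX : A ≤ 𝐍(X))
    (hAD : A ≤ 𝐍(rad Z0 P)) (hE : ⁅rad Z0 P ⊓ X, A⁆ ≤ E) : InvOn A X φ := by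
  have e := (h.zc_eq hX hφ h1).trans (h.rad_eq hX hd)
  refine invOn_of_zc (cl2_mono h.h2 hX) hφ hAX (e ▸ le_normalizer_inf hAD hAX) ?_
  rw [e]
  exact (le_inf hE ((commutator_mono inf_le_right le_rfl).trans (commutator_le_left_of_norm hAX))).trans (h.ker hX hφ h1)

theorem sub (hX : X ≤ P) (hd : rad Z0 X ≤ rad Z0 P) (hA : IsCyclic A) (hAX : A ≤ 𝐍(X))
    (hc : (Nat.card A).Coprime (Nat.card X)) (hAD : A ≤ 𝐍(rad Z0 P)) (hE : ⁅rad Z0 P ⊓ X, A⁆ ≤ E) (h0 : A0 ≤ A)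
    (hf : ∀ a ∈ A, a ∉ A0 → X ⊓ centralizer {a} ≤ rad Z0 P) (hne : ¬ X ≤ rad Z0 P) :
    (A0.relIndex A - 1) ^ 2 ≤ (rad Z0 P).relIndex X := by
  obtain ⟨φ, hφ, h1, e, h3⟩ := h.exists_irr hX hd
  rcases d2 (cl2_mono h.h2 hX) hφ hA hAX hc (h.invOn hX hd hφ h1 hAX hAD hE) h0 fun a ha ha' =>
    e ▸ le_inf (hf a ha ha') inf_le_left with h4 | h4
  · rw [h4, one_pow, eq_comm, relIndex_eq_one] at h3
    exact absurd h3 hne
  · rw [← h3]
    exact Nat.pow_le_pow_left (by omega) 2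

end Sy

end Cfsg.Lib.Tur
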