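import Cfsg.Agent.Lib.Tur.A
import Cfsg.Agent.Lib.Clifford.Fixed

/-! The exceptional Shult configuration does not extend upwards. -/

set_option autoImplicit false
set_option linter.unusedSectionVars false

namespace Cfsg.Lib.Tur
open Subgroup Cfsg.Lib.Core Cfsg.Lib.Amalg Cfsg.Lib.BG1 Cfsg.Lib.Clifford Cfsg.Lib.Char Cfsg.Lib.Hall
open scoped commutatorElement ComplexConjugate IsMulCommutative

variable {G : Type*} [Group G] [Finite G] {A A0 B D E H K L M N P Q R S T U V W X Y Z0 : Subgroup G} {χ θ φ ψ η : G → ℂ}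
  {p r l s : ℕ}

theorem centQuo_anti (hU : U ≤ 𝐍(V)) (h : W ≤ U) : centQuo V U ≤ centQuo V W :=
  le_centQuo (h.trans hU) (centQuo_le V U) ((commutator_mono h le_rfl).trans (commutator_centQuo_le hU))

theorem comm_sup_le (hX : X ≤ 𝐍(N)) (hA : A ≤ 𝐍(N)) (hB : B ≤ 𝐍(N)) (h1 : ⁅X, A⁆ ≤ N) (h2 : ⁅X, B⁆ ≤ N) :
    ⁅X, A ⊔ B⁆ ≤ N := commutator_le_of_le_centQuo hX (sup_le (le_centQuo hX hA h1) (le_centQuo hX hB h2))

theorem sup_comm_le (hX : X ≤ 𝐍(N)) (hA : A ≤ 𝐍(N)) (hB : B ≤ 𝐍(N)) (h1 : ⁅A, X⁆ ≤ N) (h2 : ⁅B, X⁆ ≤ N) :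
    ⁅A ⊔ B, X⁆ ≤ N := by
  rw [commutator_comm] at h1 h2 ⊢
  exact comm_sup_le hX hA hB h1 h2

theorem comm_bot_le (h : A ≤ 𝐂(B)) : ⁅A, B⁆ ≤ N := (commutator_eq_bot_iff_le_centralizer.2 h).le.trans bot_le

theorem comm_bot_le' (h : B ≤ 𝐂(A)) : ⁅A, B⁆ ≤ N := comm_bot_le (BG1.le_cent_symm h)

theorem cent_le_of_not_mem (hR : (Nat.card R).Prime) (hYR : Y ≤ 𝐂(R)) (hc : (Nat.card Y).Coprime (Nat.card R)) {a : G}
    (ha : a ∈ Y ⊔ R) (ha' : a ∉ Y) : centralizer {a} ≤ 𝐂(R) := by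
  obtain ⟨y, hy, c, hc', rfl⟩ := (Coprime.mem_sup_iff_of_le_normalizer (le_norm_of_le_cent (BG1.le_cent_symm hYR))).1 ha
  have h1 : (y * c) ^ Nat.card Y = c ^ Nat.card Y := by
    rw [(show Commute y c from (hYR hy c hc').symm).mul_pow, orderOf_dvd_iff_pow_eq_one.1 (Y.orderOf_dvd_natCard hy), one_mul]
  rw [← Coprime.centralizer_singleton_eq_of_card_prime hR (pow_mem hc' (Nat.card Y)) fun e => ha' ?_, ← h1]
  · intro x hx
    rw [mem_centralizer_singleton_iff] at hx ⊢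
    exact (show Commute x (y * c) from hx).pow_right _
  · have := (hc.coprime_dvd_right (R.orderOf_dvd_natCard hc')).symm.eq_one_of_dvd (orderOf_dvd_of_pow_eq_one e)
    rw [orderOf_eq_one_iff.1 this, mul_one]; exact hy

theorem coprime_sup (hn : B ≤ 𝐍(A)) {n : ℕ} (hA : (Nat.card A).Coprime n) (hB : (Nat.card B).Coprime n) :
    (Nat.card ↥(A ⊔ B)).Coprime n :=
  (Nat.Coprime.mul_left hA hB).coprime_dvd_left (Core.card_sup_dvd' hn)

theorem chain (hl : l.Prime) (hY : IsCyclic Y) (hYl : IsPGroup l Y) (hA : A ≤ Y) (hB : B ≤ Y) : A ≤ B ∨ B ≤ A := by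
  haveI := Fact.mk hl
  obtain ⟨a, ha⟩ := (hYl.to_le hA).exists_card_eq
  obtain ⟨b, hb⟩ := (hYl.to_le hB).exists_card_eq
  rcases le_total a b with h | h
  · exact Or.inl (PGrp.le_of_card_dvd_of_isCyclic hY hA hB (by rw [ha, hb]; exact pow_dvd_pow _ h))
  · exact Or.inr (PGrp.le_of_card_dvd_of_isCyclic hY hB hA (by rw [ha, hb]; exact pow_dvd_pow _ h))

theorem cent_le_mod (hB : B ≤ 𝐍(S)) (hc : (Nat.card B).Coprime (Nat.card S)) (hD : ⁅S, S⁆ ≤ D) (hBD : B ≤ 𝐍(D))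
    (hY : Y ≤ ⁅S, B⁆) (h : ⁅Y, B⁆ ≤ D) : Y ≤ D := by
  have h1 : ⁅S, B⁆ ≤ S := commutator_le_left_of_norm hB
  have h2 := le_norm_commutator_right S B
  exact (fe_cent_le (D := D ⊓ ⁅S, B⁆) h2 (Coprime.coprime_card_of_le hc le_rfl h1) (Coprime.commutator_commutator_eq hB hc)
    (le_inf ((commutator_mono h1 h1).trans hD) (Subgroup.commutator_le_self _)) inf_le_right (le_normalizer_inf hBD h2) hY
    (le_inf h ((commutator_mono hY le_rfl).trans (commutator_le_left_of_norm h2)))).trans inf_le_left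

namespace Sy
variable (h : Sy p P Z0 E χ)
include h

theorem subp (hS : S ≤ P) (hd : rad Z0 S ≤ rad Z0 P) (hR : (Nat.card R).Prime) (hl : l.Prime) (hY : IsCyclic Y)
    (hYl : IsPGroup l Y) (hcY : (Nat.card Y).Coprime (Nat.card P)) (hcR : (Nat.card R).Coprime (Nat.card P))
    (hcYR : (Nat.card Y).Coprime (Nat.card R)) (hYR : Y ≤ 𝐂(R)) (hYS : Y ≤ 𝐍(S)) (hRS : R ≤ 𝐍(S))
    (hYZ : ⁅⁅P, P⁆, Y⁆ ≤ Z0) (hYD : Y ≤ 𝐍(rad Z0 P)) (hRD : R ≤ 𝐍(rad Z0 P)) (hE : ⁅rad Z0 P ⊓ S, Y ⊔ R⁆ ≤ E)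
    (hf : S ⊓ 𝐂(R) ≤ rad Z0 P) (hne : ¬ Y ≤ centQuo (rad Z0 P) S) :
    ∃ B ≤ Y, ((centQuo (rad Z0 P) S).relIndex Y * Nat.card R - 1) ^ 2 ≤ (rad Z0 P).relIndex ⁅S, B⁆ := by
  obtain ⟨B, hB, hB1, hmin⟩ := Core.exists_minimal_le (fun B => ¬ B ≤ centQuo (rad Z0 P) S) hne
  haveI := PGrp.isMulCommutative_of_isCyclic hY
  haveI := Fact.mk hR
  have hX : ⁅S, B⁆ ≤ S := commutator_le_left_of_norm (hB.trans hYS)
  have hcB := Coprime.coprime_card_of_le hcY hB hS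
  have hRY : R ≤ 𝐍(Y) := le_norm_of_le_cent (BG1.le_cent_symm hYR)
  refine ⟨B, hB, le_trans (le_of_eq ?_) (h.sub (A := Y ⊔ R) (A0 := Y ⊓ centQuo (rad Z0 P) S) (hX.trans hS)
    (h.nd hS hd (hB.trans hYS) hcB ((commutator_mono le_rfl hB).trans hYZ))
    (isCyclic_sup_of_coprime hY (isCyclic_of_prime_card rfl) (fun a ha b hb => (hYR ha b hb).symm) hcYR)
    (le_normalizer_commutator (sup_le hYS hRS) (le_norm_of_le_cent (sup_le ((le_centralizer Y).trans (centralizer_le hB))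
      (BG1.le_cent_symm (hB.trans hYR)))))
    (Coprime.coprime_card_of_le (coprime_sup hRY hcY hcR) le_rfl (hX.trans hS)) (sup_le hYD hRD)
    ((commutator_mono (inf_le_inf_left _ hX) le_rfl).trans hE) (inf_le_left.trans le_sup_left) (fun a ha ha' => ?_)
    fun e => hB1 (le_centQuo (hS.trans h.norm_rad) (hB.trans hYD) e))⟩
  · rw [← relIndex_mul_relIndex _ Y _ inf_le_left le_sup_left, inf_comm, inf_relIndex_right,
      Coprime.relIndex_sup_of_le_normalizer' hRY, ← Core.card_inf_mul_relIndex Y R,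
      Coprime.inf_eq_bot_of_coprime_card hcYR.symm, card_bot, one_mul]
  · by_cases haY : a ∈ Y
    · have h1 : B ≤ zpowers a := by
        rcases chain hl hY hYl hB (zpowers_le.2 haY) with h1 | h1
        · exact h1
        · exact (hmin _ (fun e => ha' ⟨haY, zpowers_le.1 e⟩) h1).ge
      refine cent_le_mod (hB.trans hYS) hcB ((commutator_mono hS hS).trans h.der_le) (hB.trans hYD) inf_le_left
        (comm_bot_le (inf_le_right.trans ?_))
      rw [← PGrp.centralizer_zpowers]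
      exact centralizer_le h1
    · exact (inf_le_inf hX (cent_le_of_not_mem hR hYR hcYR ha haY)).trans hf

theorem comm_le_E (hS : S ≤ P) (hcR : (Nat.card R).Coprime (Nat.card P)) (hYR : Y ≤ 𝐂(R)) (hYP : Y ≤ 𝐍(P))
    (hRP : R ≤ 𝐍(P)) (hRS : R ≤ 𝐍(S)) (hYZ : ⁅⁅P, P⁆, Y⁆ ≤ Z0) (hRZ : ⁅⁅P, P⁆, R⁆ ≤ Z0) (hf : S ⊓ 𝐂(R) ≤ ⁅P, P⁆)
    (hE : ⁅rad Z0 P, R⁆ ≤ E) : ⁅rad Z0 P ⊓ S, Y ⊔ R⁆ ≤ E := by
  have hYZ0 := h.normZ hYZ
  have hRZ0 := h.normZ hRZ
  have hRD := le_norm_rad hRP hRZ0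
  have h1 : Y ⊔ R ≤ 𝐍(⁅rad Z0 P, R⁆ ⊔ Z0) := le_normalizer_sup (sup_le (le_normalizer_commutator (le_norm_rad hYP hYZ0)
    (le_norm_of_le_cent hYR)) (le_norm_commutator_right _ _)) (sup_le hYZ0 hRZ0)
  have h2 : ⁅rad Z0 P, R⁆ ⊔ Z0 ≤ P := sup_le ((commutator_le_left_of_norm hRD).trans rad_le) (h.hZE.trans h.hE)
  have h3 : ⁅P, P⁆ ≤ 𝐍(⁅rad Z0 P, R⁆ ⊔ Z0) := le_norm_of_le_cent (h.h2.trans (centralizer_le h2))
  have h4 : rad Z0 P ⊓ S ≤ (⁅rad Z0 P, R⁆ ⊔ Z0) ⊔ ⁅P, P⁆ :=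
    (Coprime.commutator_sup_centralizer (le_normalizer_inf hRD hRS) (Coprime.coprime_card_of_le hcR le_rfl
      (inf_le_right.trans hS)) (Or.inr (solvable_of_le (inf_le_right.trans hS) h.sol))).ge.trans
      (sup_le_sup ((commutator_mono inf_le_left le_rfl).trans le_sup_left) ((inf_le_inf_right _ inf_le_right).trans hf))
  refine ((commutator_mono h4 le_rfl).trans (sup_comm_le h1 le_normalizer h3 (commutator_le_left_of_norm h1) ?_)).trans
    (sup_le hE h.hZE)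
  exact comm_sup_le h3 (le_sup_left.trans h1) (le_sup_right.trans h1) (hYZ.trans le_sup_right) (hRZ.trans le_sup_right)

theorem bound (hR : (Nat.card R).Prime) (hχ : CharOn (P ⊔ R) χ) (h0 : dot R χ 1 = 0) (hRP : R ≤ 𝐍(P))
    (hcR : (Nat.card R).Coprime (Nat.card P)) (hRZ : ⁅⁅P, P⁆, R⁆ ≤ Z0) :
    (rad Z0 P).relIndex ⁅P, R⁆ ≤ (Nat.card R - 1) ^ 2 := by
  have hS : ⁅P, R⁆ ≤ P := commutator_le_left_of_norm hRP
  have hn := le_norm_commutator_right P R
  have hc := Coprime.coprime_card_of_le hcR le_rfl hS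
  have hb := Coprime.inf_eq_bot_of_coprime_card hc
  haveI := Fact.mk hR
  obtain ⟨φ, hφ, h1, -, h3⟩ := h.exists_irr hS (h.nd le_rfl le_rfl hRP hcR hRZ)
  have hχ' := hχ.mono (sup_le_sup_right hS R)
  have e := fe_eq_of_prime hR inertia_le (fa_inertia_ne_bot hn hb hχ' h0 hφ h1)
  obtain ⟨ψ, hψ, e', hψ0⟩ := fa_exists_ext hn hb hχ' h0 hφ h1 (by rw [e]; exact isCyclic_of_prime_card rfl)
  rw [e] at hψ hψ0
  have h2 := cl2_mono h.h2 hS
  have h4 := ff_deg_le h2 hn hc hR hψ (hφ.congr fun x hx => (e' x hx).symm) hψ0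
  rw [relIndex_eq_one.2 ((fe_cent_le hn hc (Coprime.commutator_commutator_eq hRP hcR) le_rfl (Subgroup.commutator_le_self _)
    (le_norm_der hn) inf_le_left (comm_bot_le inf_le_right)).trans (der_le_zc h2)), mul_one,
    charDegree_of_eq ((e' 1 (one_mem _)).trans hφ.one_eq), h3] at h4
  exact h4

theorem lemY (hR : (Nat.card R).Prime) (hχ : CharOn (P ⊔ R) χ) (h0 : dot R χ 1 = 0) (hRP : R ≤ 𝐍(P))
    (hcR : (Nat.card R).Coprime (Nat.card P)) (hRZ : ⁅⁅P, P⁆, R⁆ ≤ Z0) (hs : s.Prime) (hH : IsPGroup s H)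
    (hcH : (Nat.card H).Coprime (Nat.card P)) (hcRH : (Nat.card R).Coprime (Nat.card H)) (hHP : H ≤ 𝐍(P))
    (hRH : R ≤ 𝐍(H)) (hHZ : H ≤ 𝐂(⁅P, P⁆)) (hPH : ⁅P, H⁆ = P) (hE : ⁅rad Z0 P, R⁆ ≤ E) : ⁅P, R⁆ ≤ rad Z0 P := by
  by_contra hne
  set D := rad Z0 P with hD
  set S := ⁅P, R⁆ with hSd
  haveI := Fact.mk hs
  have hS : S ≤ P := commutator_le_left_of_norm hRP
  have hRS : R ≤ 𝐍(S) := le_norm_commutator_right P R
  have hb := h.bound hR hχ h0 hRP hcR hRZ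
  have hHZ' : ⁅⁅P, P⁆, H⁆ ≤ Z0 := comm_bot_le' hHZ
  have hHD : H ≤ 𝐍(D) := le_norm_rad hHP (h.normZ hHZ')
  have hRD : R ≤ 𝐍(D) := le_norm_rad hRP (h.normZ hRZ)
  have hPD : P ≤ 𝐍(D) := h.norm_rad
  have hsH := solvable_of_pgroup hs hH
  have hf : S ⊓ 𝐂(R) ≤ ⁅P, P⁆ := cent_le_mod hRP hcR le_rfl (le_norm_der hRP) inf_le_left (comm_bot_le inf_le_right)
  have h1 : ∀ M ≤ H, R ≤ 𝐍(M) → ⁅M, R⁆ ≤ centQuo D P → ⁅⁅P, M⁆, R⁆ ≤ D := fun M hM hRM hMR => by
    have h2 : M ≤ centQuo D S := by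
      refine (Coprime.commutator_sup_centralizer hRM (Coprime.coprime_card_of_le hcRH le_rfl hM)
        (Or.inr (solvable_of_le hM hsH))).ge.trans (sup_le (hMR.trans (centQuo_anti hPD hS)) fun y hy => ?_)
      by_contra hy'
      have hY : zpowers y ≤ H := zpowers_le.2 (hM hy.1)
      have hYR : zpowers y ≤ 𝐂(R) := zpowers_le.2 hy.2
      have hYZ := (commutator_mono le_rfl hY).trans hHZ'
      obtain ⟨B, hB, h3⟩ := h.subp hS (h.nd le_rfl le_rfl hRP hcR hRZ) hR hs inferInstance (hH.to_le hY)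
        (Coprime.coprime_card_of_le hcH hY le_rfl) hcR (Coprime.coprime_card_of_le hcRH.symm hY le_rfl) hYR
        (le_normalizer_commutator (hY.trans hHP) (le_norm_of_le_cent hYR)) hRS hYZ (hY.trans hHD) hRD
        (h.comm_le_E hS hcR hYR (hY.trans hHP) hRP hRS hYZ hRZ hf hE) (hf.trans h.der_le) (mt zpowers_le.1 hy')
      have h4 := (h3.trans (relIndex_le_of_le_right (commutator_le_left_of_norm (hB.trans (le_normalizer_commutator
        (hY.trans hHP) (le_norm_of_le_cent hYR)))) relIndex_ne_zero')).trans hb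
      have h5 : (centQuo D S).relIndex (zpowers y) ≠ 1 := fun e => hy' (zpowers_le.1 (relIndex_eq_one.1 e))
      have h6 : (centQuo D S).relIndex (zpowers y) ≠ 0 := relIndex_ne_zero'
      have h7 : (centQuo D S).relIndex (zpowers y) * Nat.card R - 1 ≤ Nat.card R - 1 :=
        (Nat.pow_le_pow_iff_left two_ne_zero).1 h4
      have h8 := hR.two_le
      have h9 : 2 * Nat.card R ≤ (centQuo D S).relIndex (zpowers y) * Nat.card R := Nat.mul_le_mul_right _ (by omega)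
      omega
    exact cent_le_mod (hM.trans hHP) (Coprime.coprime_card_of_le hcH hM le_rfl) h.der_le (hM.trans hHD)
      (commutator_le_left_of_norm (le_normalizer_commutator hRP hRM)) ((commutator_mono (commutator_mono
        (commutator_le_left_of_norm (hM.trans hHP)) le_rfl) le_rfl).trans (commutator_le_of_le_centQuo (hS.trans hPD) h2))
  by_cases hN : ⁅H, R⁆ ≤ centQuo D P
  · exact hne (by have := h1 H le_rfl hRH hN; rwa [hPH] at this)
  set N := ⁅H, R⁆ with hNd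
  have hNH : N ≤ H := commutator_le_left_of_norm hRH
  have hRN : R ≤ 𝐍(N) := le_norm_commutator_right H R
  have hNK : N ≤ 𝐍(N ⊓ centQuo D P) := le_normalizer_inf le_normalizer (hNH.trans (le_norm_centQuo hHD hHP))
  have hRK : R ≤ 𝐍(N ⊓ centQuo D P) := le_normalizer_inf hRN (le_norm_centQuo hRD hRP)
  set M := N ⊓ centQuo (N ⊓ centQuo D P) N with hMd
  have hMN : M ≤ N := inf_le_left
  have hMH := hMN.trans hNH
  have hRM : R ≤ 𝐍(M) := le_normalizer_inf hRN (le_norm_centQuo hRK hRN)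
  have hNM : N ≤ 𝐍(M) := le_normalizer_inf le_normalizer (le_norm_centQuo hNK le_normalizer)
  have hcM := Coprime.coprime_card_of_le hcH hMH le_rfl
  have hM : ¬ M ≤ centQuo D P := fun e => by
    have h2 := isPGroup_mim (qmk (N ⊓ centQuo D P)) (hH.to_le hNH)
    refine Core.inf_centralizer_ne_bot_of_isPGroup h2 h2 le_normalizer (fun e' => hN
      (((quo_eq_bot_iff hNK).1 e').trans inf_le_right)) ?_
    rw [← quo_quoPre _ 𝐂(_), ← mim_inf (mpre_le _ _) (mker_le_mpre _ _), quo_eq_bot_iff (inf_le_left.trans hNK)]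
    exact le_inf inf_le_left e
  by_cases hMR : ⁅M, R⁆ ≤ centQuo D P
  · have hX : ⁅P, M⁆ ≤ P := commutator_le_left_of_norm (hMH.trans hHP)
    have h2 := le_centQuo (hX.trans hPD) hRD (h1 M hMH hRM hMR)
    have h3 : N ≤ centQuo D ⁅P, M⁆ := (Coprime.commutator_commutator_eq hRH hcRH).ge.trans ((commutator_mono le_rfl h2).trans
      (commutator_le_right_of_norm (le_norm_centQuo (hNH.trans hHD) (le_normalizer_commutator (hNH.trans hHP) hNM))))
    refine hM (le_centQuo hPD (hMH.trans hHD) ?_)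
    rw [← Coprime.commutator_commutator_eq (hMH.trans hHP) hcM]
    exact commutator_le_of_le_centQuo (hX.trans hPD) (hMN.trans h3)
  have hT : ⁅M, R⁆ ≤ H := (commutator_le_left_of_norm hRM).trans hMH
  have hcT := Coprime.coprime_card_of_le hcH hT le_rfl
  have hB1 : ⁅M, R⁆ ⊔ R ≤ 𝐍(P) := sup_le (hT.trans hHP) hRP
  have hB1D : ⁅M, R⁆ ⊔ R ≤ 𝐍(D) := sup_le (hT.trans hHD) hRD
  have hcB := coprime_sup (le_norm_commutator_right M R) hcT hcR
  set X := ⁅P, ⁅M, R⁆ ⊔ R⁆ with hXd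
  have hX : X ≤ P := commutator_le_left_of_norm hB1
  have hXD := hX.trans hPD
  have hRX : R ≤ 𝐍(X) := le_sup_right.trans (le_norm_commutator_right _ _)
  obtain ⟨φ, -, -, -, h3⟩ := h.exists_irr hX (h.nd le_rfl le_rfl hB1 hcB (comm_sup_le (le_norm_of_le_cent
    (h.h2.trans (centralizer_le (h.hZE.trans h.hE)))) (hT.trans (h.normZ hHZ')) (h.normZ hRZ)
    ((commutator_mono le_rfl hT).trans hHZ') hRZ))
  haveI : IsMulCommutative (quo D P) := (isMulCommutative_quo_iff hPD).2 h.der_le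
  haveI : IsMulCommutative (quo D X) := (isMulCommutative_quo_iff hXD).2 ((commutator_mono hX hX).trans h.der_le)
  have hb' := fd_card_quo hRD (Coprime.coprime_card_of_le hcR le_rfl rad_le)
  have hcRX := coprime_card_mim (qmk D) (Coprime.coprime_card_of_le hcR le_rfl hX)
  have h4 := fe_wiel (W := quo D X) (T := quo D M) (B := quo D R) (hb' ▸ hR) (isSolvable_mim _ (solvable_of_le hX h.sol))
    (mim_norm _ (le_normalizer_commutator (hMH.trans hHP) (fe_norm_sup hRM))) (mim_norm _ hRX) (mim_norm _ hRM)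
    (coprime_card_mim _ (Coprime.coprime_card_of_le hcRH le_rfl hMH)) hcRX
    (coprime_card_mim _ (Coprime.coprime_card_of_le hcM le_rfl hX)) (by
      rw [← mim_commutator (hMH.trans hHD) (hMH.trans hHD), quo_cent_iff ((Subgroup.commutator_le_self M).trans
        (hMH.trans hHD)) hXD, commutator_comm]
      exact commutator_le_of_le_centQuo hXD (((commutator_mono hMN inf_le_right).trans ((commutator_centQuo_le hNK).trans
        inf_le_right)).trans (centQuo_anti hPD hX))) (by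
      rw [← mim_commutator (hMH.trans hHD) hRD, ← mim_sup (hT.trans hHD) hRD, hXd, mim_commutator hPD hB1D]
      exact coprime_abelian_cent_TI (mim_norm _ hB1) (coprime_card_mim _ hcB) inferInstance)
  have h5 := Coprime.card_eq_card_centralizer_mul_card_commutator (mim_norm (qmk D) hRX) hcRX
  have h6 : Nat.card ↥⁅quo D X, quo D R⁆ ≤ (Nat.card R - 1) ^ 2 := by
    rw [← mim_commutator hXD hRD, card_quo ((commutator_le_left_of_norm hRX).trans hXD)]
    exact (relIndex_le_of_le_right (commutator_mono hX le_rfl) relIndex_ne_zero').trans hb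
  erw [hb'] at h4
  refine fe_num hR ?_ Nat.card_pos (h3.trans ((card_quo hXD).symm.trans h4)) ?_
  · by_contra h7
    have h8 : Nat.card ↥(quo D X ⊓ 𝐂(quo D R)) = 1 := by
      have : 0 < Nat.card ↥(quo D X ⊓ 𝐂(quo D R)) := Nat.card_pos
      exact le_antisymm (Nat.le_of_lt_succ (not_le.1 h7)) this
    erw [h8, one_pow, one_mul] at h4
    have h9 := (PGrp.eq_of_le_of_card_le inf_le_left h4.le).ge.trans inf_le_right
    rw [← mim_commutator (hMH.trans hHD) hRD, quo_cent_iff hXD (hT.trans hHD)] at h9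
    refine hMR (le_centQuo hPD (hT.trans hHD) ?_)
    rw [← Coprime.commutator_commutator_eq (hT.trans hHP) hcT]
    exact (commutator_mono (commutator_mono le_rfl le_sup_left) le_rfl).trans h9
  · rw [h3, ← card_quo hXD, h5, mul_comm]
    exact Nat.mul_le_mul_right _ h6

end Sy

end Cfsg.Lib.Tur
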