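import Cfsg.Agent.Lib.Tur.B

/-! Invariant families of subgroups of a module and their moved members. -/

set_option autoImplicit false
set_option linter.unusedSectionVars false

namespace Cfsg.Lib.Tur
open Subgroup Cfsg.Lib.Core Cfsg.Lib.Amalg Cfsg.Lib.BG1 Cfsg.Lib.Hall
open scoped commutatorElement IsMulCommutative

variable {G : Type*} [Group G] [Finite G] {A B D E H J K L M N P Q R S T U V W X Y Z Z0 : Subgroup G}
  {Ω : Set (Subgroup G)} {p q r l s : ℕ}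

theorem eq_of_sup_der (hp : p.Prime) (hP : IsPGroup p P) (hX : X ≤ P) (h : P ≤ X ⊔ ⁅P, P⁆) : X = P := by
  haveI := Fact.mk hp
  exact Core.eq_of_sup_frattiniOf_eq hX (h.trans (sup_le_sup_left (commutator_le_frattiniOf hP) _))

theorem comm_zpowers_le {t a : G} (ht : t ∈ 𝐍(N)) (ha : a ∈ 𝐍(N)) (h : ⁅t, a⁆ ∈ N) : ⁅zpowers t, zpowers a⁆ ≤ N := by
  rw [← quo_cent_iff (zpowers_le.2 ht) (zpowers_le.2 ha), mim_zpowers ht, mim_zpowers ha, zpowers_le,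
    PGrp.centralizer_zpowers, mem_centralizer_singleton_iff, ← commutatorElement_eq_one_iff_mul_comm,
    ← map_commutatorElement, qmk_eq_one_iff]
  exact h

theorem mem_centQuo_of (hP : P ≤ 𝐍(N)) {g : G} (hg : g ∈ 𝐍(N)) (h : ∀ t ∈ P, ⁅t, g⁆ ∈ N) : g ∈ centQuo N P := by
  rw [centQuo, mem_mpre_iff hg]
  rintro _ ⟨y, hy, rfl⟩
  rw [← commutatorElement_eq_one_iff_mul_comm, ← map_commutatorElement]
  exact (qmk_eq_one_iff _).2 (h y hy)

theorem norm_elt [IsMulCommutative V] (hn : R ≤ 𝐍(V)) {x : G} (hx : x ∈ V) : ∃ v ∈ V ⊓ 𝐂(R), ∀ B : Subgroup G,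
    (∀ a ∈ R, a ≠ 1 → a * x * a⁻¹ ∈ B) → (v ∈ B ↔ x ∈ B) := by
  classical
  haveI := Fintype.ofFinite R
  refine ⟨_, ⟨Subtype.prop _, Coprime.prod_conjAut_mem_centralizer hn ⟨x, hx⟩⟩, fun B hB => ?_⟩
  rw [← Finset.mul_prod_erase _ _ (Finset.mem_univ (1 : R)), map_one, MulAut.one_apply, coe_mul]
  refine mul_mem_cancel_right ?_
  exact (B.subgroupOf V).prod_mem (t := Finset.univ.erase (1 : R)) (f := fun a => Coprime.conjAut hn a ⟨x, hx⟩)
    fun a ha => hB a a.2 fun e => (Finset.mem_erase.1 ha).1 (Subtype.ext e)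

theorem ab (hR : (Nat.card R).Prime) (hs : Group.IsSolvable W) (hTW : T ≤ 𝐍(W)) (hRW : R ≤ 𝐍(W)) (hRT : R ≤ 𝐍(T))
    (hc : (Nat.card R).Coprime (Nat.card T)) (hcR : (Nat.card R).Coprime (Nat.card W))
    (hcT : (Nat.card T).Coprime (Nat.card W)) (h : ⁅T, T⁆ ≤ 𝐂(W)) (h0 : W ⊓ 𝐂(R) = ⊥) : ⁅T, R⁆ ≤ 𝐂(W) := by
  have h1 := fe_wiel hR hs hTW hRW hRT hc hcR hcT h
    (le_bot_iff.1 ((inf_le_inf_left _ (centralizer_le (le_sup_right : R ≤ ⁅T, R⁆ ⊔ R))).trans h0.le))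
  rw [h0, card_bot, one_pow, one_mul] at h1
  exact BG1.le_cent_symm ((PGrp.eq_of_le_of_card_le inf_le_left h1.le).ge.trans inf_le_right)

/-- the intersection of the moved members of `Ω` -/
def V0 (V R : Subgroup G) (Ω : Set (Subgroup G)) : Subgroup G := V ⊓ ⨅ A ∈ {A ∈ Ω | ¬ ⁅V, R⁆ ≤ A}, A

theorem mem_V0 {v : G} : v ∈ V0 V R Ω ↔ v ∈ V ∧ ∀ A ∈ Ω, ¬ ⁅V, R⁆ ≤ A → v ∈ A := by
  simp only [V0, mem_inf, mem_iInf, Set.mem_setOf_eq, and_imp]

structure Om (L V : Subgroup G) (Ω : Set (Subgroup G)) : Prop where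
  le : ∀ A ∈ Ω, A ≤ V
  inv : ∀ A ∈ Ω, ∀ g ∈ L, cj g A ∈ Ω
  sep : ∀ v ∈ V, (∀ A ∈ Ω, v ∈ A) → v = 1

theorem Om.mono (h : Om L V Ω) (hK : K ≤ L) : Om K V Ω := ⟨h.le, fun A hA g hg => h.inv A hA g (hK hg), h.sep⟩

/-- members of the orbit of a fixed member which are fixed -/
theorem fixed_mem [IsMulCommutative V] (hA : A ≤ V) (hRA : ⁅V, R⁆ ≤ A) (hTV : T ≤ 𝐍(V)) (hRT : R ≤ 𝐍(T))
    (hc : (Nat.card R).Coprime (Nat.card T)) (hs : Group.IsSolvable T) {t : G} (ht : t ∈ T)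
    (h : ⁅V, R⁆ ≤ cj t A) : t ∈ (T ⊓ 𝐂(R)) ⊔ (centQuo A V ⊓ T) := by
  have hVA : V ≤ 𝐍(A) := le_norm_of_le_cent ((le_centralizer V).trans (centralizer_le hA))
  have h1 : ∀ X, ⁅V, X⁆ ≤ A → X ≤ centQuo A V := fun X hX => le_centQuo hVA (fe_norm_of_der hX hA) hX
  rw [le_cj_iff, cj_commutator, cj_of_mem_normalizer (hTV (inv_mem ht))] at h
  obtain ⟨u, hu, h2⟩ := Coprime.exists_mul_mem_centralizer (S := centQuo A V ⊓ T)
    (le_normalizer_inf ((h1 R hRA).trans le_normalizer) hRT) (Coprime.coprime_card_of_le hc le_rfl inf_le_right)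
    (Or.inr (solvable_of_le inf_le_right hs)) (k := t) fun a ha => ⟨by
      have := mul_mem (h1 _ h (conj_mem_cj t⁻¹ ha)) (inv_mem (h1 R hRA ha))
      simpa [mul_assoc] using this, T.mul_mem (T.inv_mem ht) (Coprime.conj_mem hRT ha ht)⟩
  have h3 : t * u ∈ T ⊓ 𝐂(R) := ⟨mul_mem ht hu.2, h2⟩
  have h4 : u⁻¹ ∈ centQuo A V ⊓ T := inv_mem hu
  have := Subgroup.mul_mem_sup h3 h4
  rwa [mul_inv_cancel_right] at this

/-- the norm element of a conjugate of a fixed vector -/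
theorem norm_not_mem [IsMulCommutative V] (hΩ : Om T V Ω) (hA : A ∈ Ω) (hW : W ≤ V) (hTW : T ≤ 𝐍(W)) (hRW : R ≤ 𝐍(W))
    (hRT : R ≤ 𝐍(T)) {w t : G} (hw : w ∈ W) (hwR : w ∈ 𝐂(R)) (hw0 : w ∈ V0 V R Ω) (hwA : w ∉ A) (ht : t ∈ T)
    (h : ∀ a ∈ R, a ≠ 1 → ¬ ⁅V, R⁆ ≤ cj (a * t⁻¹ * a⁻¹ * t) A) :
    ∃ v ∈ W ⊓ 𝐂(R), v ∉ cj t A ∧ ∀ B : Subgroup G, (∀ a ∈ R, a * (t * w * t⁻¹) * a⁻¹ ∈ B) → v ∈ B := by
  haveI : IsMulCommutative W := ⟨⟨fun a b => Subtype.ext (Coprime.mul_comm_of_mem (hW a.2) (hW b.2))⟩⟩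
  obtain ⟨v, hv, h1⟩ := norm_elt hRW (Coprime.conj_mem hTW ht hw)
  refine ⟨v, hv, fun e => hwA (conj_mem_cj_iff.1 ((h1 _ fun a ha ha1 => ?_).1 e)), fun B hB =>
    (h1 B fun a ha _ => hB a ha).2 (by simpa using hB 1 R.one_mem)⟩
  have h2 := (mem_V0.1 hw0).2 _ (hΩ.inv A hA _ (mul_mem (Coprime.conj_mem hRT ha (inv_mem ht)) ht)) (h a ha ha1)
  rw [mem_cj] at h2 ⊢
  have e := hwR a ha
  convert h2 using 1
  rw [show (a * t⁻¹ * a⁻¹ * t)⁻¹ * w * (a * t⁻¹ * a⁻¹ * t) = t⁻¹ * a * t * (a⁻¹ * (w * a)) * t⁻¹ * a⁻¹ * t by group, ← e]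
  group

theorem not_mem_of_fpf (hR : (Nat.card R).Prime) (hRT : R ≤ 𝐍(T)) (hc : (Nat.card R).Coprime (Nat.card T))
    (hTR : ⁅T, R⁆ = T) (h1 : ⁅T, T⁆ ≤ N) (hN : N ≤ T) (hRN : R ≤ 𝐍(N)) {t a : G} (ht : t ∈ T) (ha : a ∈ R) (ha1 : a ≠ 1)
    (h : a * t⁻¹ * a⁻¹ * t ∈ N) : t ∈ N := by
  have hTN := le_norm_of_der_le h1 hN
  refine inv_mem_iff.1 (zpowers_le.1 (fe_cent_le hRT hc hTR h1 hN hRN (zpowers_le.2 (inv_mem ht)) ?_))
  rw [← Coprime.zpowers_eq_of_card_prime hR ha ha1, commutator_comm]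
  exact comm_zpowers_le (hRN ha) (hTN (inv_mem ht)) (by rwa [commutatorElement_def, inv_inv])

theorem om1 [IsMulCommutative V] (hR : (Nat.card R).Prime) (hp : p.Prime) (hT : IsPGroup p T) (hΩ : Om T V Ω)
    (hTV : T ≤ 𝐍(V)) (hRV : R ≤ 𝐍(V)) (hRT : R ≤ 𝐍(T)) (hc : (Nat.card R).Coprime (Nat.card T)) (hTR : ⁅T, R⁆ = T)
    (hW : W ≤ ⁅V, T⁆) (hTW : T ≤ 𝐍(W)) (hRW : R ≤ 𝐍(W)) (h0 : W ⊓ 𝐂(R) ≤ V0 V R Ω) : W ⊓ 𝐂(R) = ⊥ := by
  have hWV := hW.trans (commutator_le_left_of_norm hTV)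
  refine eq_bot_iff.2 fun w hw => mem_bot.2 (hΩ.sep w (hWV hw.1) fun A hA => ?_)
  by_contra hwA
  have hRA : ⁅V, R⁆ ≤ A := by_contra fun e => hwA ((mem_V0.1 (h0 hw)).2 A hA e)
  have hAV := hΩ.le A hA
  have hVA : V ≤ 𝐍(A) := le_norm_of_le_cent ((le_centralizer V).trans (centralizer_le hAV))
  set N := (centQuo A V ⊓ T) ⊔ ⁅T, T⁆
  have hN : N ≤ T := sup_le inf_le_right (Subgroup.commutator_le_self T)
  have hRN : R ≤ 𝐍(N) := le_normalizer_sup (le_normalizer_inf (le_norm_centQuo (fe_norm_of_der hRA hAV) hRV) hRT)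
    (le_norm_der hRT)
  have hF : ∀ t ∈ T, ⁅V, R⁆ ≤ cj t A → t ∈ N := fun t ht h =>
    (sup_le ((fe_cent_le hRT hc hTR le_rfl (Subgroup.commutator_le_self T) (le_norm_der hRT) inf_le_left
      (comm_bot_le inf_le_right)).trans le_sup_right) le_sup_left : _ ≤ N)
      (fixed_mem hAV hRA hTV hRT hc (solvable_of_pgroup hp hT) ht h)
  have h1 : T ≤ N := fun t ht => by
    by_contra htN
    obtain ⟨v, hv, h2, -⟩ := norm_not_mem hΩ hA hWV hTW hRW hRT hw.1 hw.2 (h0 hw) hwA ht fun a ha ha1 e =>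
      htN (not_mem_of_fpf hR hRT hc hTR le_sup_right hN hRN ht ha ha1
        (hF _ (mul_mem (Coprime.conj_mem hRT ha (inv_mem ht)) ht) e))
    exact h2 ((mem_V0.1 (h0 hv)).2 _ (hΩ.inv A hA t ht) fun e => htN (hF t ht e))
  exact hwA (commutator_le_of_le_centQuo hVA ((eq_of_sup_der hp hT inf_le_right h1).ge.trans inf_le_left) (hW hw.1))

/-- an element of `K` centralised by the abelian group `T` -/
theorem comm_cent [IsMulCommutative V] [IsMulCommutative T] (hR : (Nat.card R).Prime) (hp : p.Prime) (hT : IsPGroup p T)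
    (hΩ : Om T V Ω) (hTV : T ≤ 𝐍(V)) (hRV : R ≤ 𝐍(V)) (hRT : R ≤ 𝐍(T)) (hc : (Nat.card R).Coprime (Nat.card T))
    (hcR : (Nat.card R).Coprime (Nat.card V)) (hcT : (Nat.card T).Coprime (Nat.card V)) (hW : W ≤ V) (hTW : T ≤ 𝐍(W))
    (hRW : R ≤ 𝐍(W)) (h0 : W ⊓ 𝐂(R) ≤ V0 V R Ω) : ⁅T, R⁆ ≤ 𝐂(W) := by
  have h1 : ⁅T, R⁆ ≤ T := commutator_le_left_of_norm hRT
  have h2 := le_norm_commutator_right T R
  have h3 : ⁅W, ⁅T, R⁆⁆ ≤ W := commutator_le_left_of_norm (h1.trans hTW)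
  have h4 := le_normalizer_commutator hRW h2
  have h5 := le_norm_commutator_right W ⁅T, R⁆
  have e := Coprime.commutator_commutator_eq hRT hc
  have h6 := om1 hR hp (hT.to_le h1) (hΩ.mono h1) (h1.trans hTV) hRV h2 (Coprime.coprime_card_of_le hc le_rfl h1) e
    (commutator_mono hW le_rfl) h5 h4 ((inf_le_inf_right _ h3).trans h0)
  have h7 := ab hR (solvable_of_le (h3.trans hW) (Coprime.isSolvable_of_isMulCommutative V)) h5 h4 h2
    (Coprime.coprime_card_of_le hc le_rfl h1) (Coprime.coprime_card_of_le hcR le_rfl (h3.trans hW))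
    (Coprime.coprime_card_of_le hcT h1 (h3.trans hW))
    (comm_bot_le (h1.trans ((le_centralizer T).trans (centralizer_le h1)))) h6
  rw [e] at h7
  exact Coprime.le_centralizer_of_commutator_le_centralizer (h1.trans hTW) (Coprime.coprime_card_of_le hcT h1 hW)
    (BG1.le_cent_symm h7)

theorem exists_not_mem {ι : Type*} (s : Finset ι) (B : ι → Subgroup G) (h2 : 2 ≤ s.card)
    (hB : ∀ i ∈ s, B i ≤ P ∧ s.card ≤ (B i).relIndex P) : ∃ t ∈ P, ∀ i ∈ s, t ∉ B i := by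
  classical
  by_contra hc
  push Not at hc
  have h1 : Clifford.elems P ⊆ insert 1 (s.biUnion fun i => (Clifford.elems (B i)).erase 1) := fun t ht => by
    obtain ⟨i, hi, h⟩ := hc t (Clifford.mem_elems.1 ht)
    by_cases e : t = 1
    · exact Finset.mem_insert.2 (Or.inl e)
    · exact Finset.mem_insert_of_mem (Finset.mem_biUnion.2 ⟨i, hi, Finset.mem_erase.2 ⟨e, Clifford.mem_elems.2 h⟩⟩)
  have h3 := (Finset.card_le_card h1).trans ((Finset.card_insert_le _ _).trans (Nat.add_le_add_right Finset.card_biUnion_le 1))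
  have h4 : ∑ i ∈ s, ((Clifford.elems (B i)).erase 1).card + s.card = ∑ i ∈ s, Nat.card (B i) := by
    rw [Finset.card_eq_sum_ones s, ← Finset.sum_add_distrib]
    exact Finset.sum_congr rfl fun i _ => by
      rw [Finset.card_erase_add_one (Clifford.mem_elems.2 (one_mem _)), Clifford.card_elems]
  have h5 : s.card * ∑ i ∈ s, Nat.card (B i) ≤ s.card * Nat.card P := by
    rw [Finset.mul_sum, ← smul_eq_mul s.card (Nat.card P)]
    refine Finset.sum_le_card_nsmul _ _ _ fun i hi => ?_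
    rw [← Core.card_mul_relIndex (hB i hi).1, mul_comm]
    exact Nat.mul_le_mul_left _ (hB i hi).2
  have h6 := Nat.le_of_mul_le_mul_left h5 (by omega)
  rw [Clifford.card_elems] at h3
  omega

/-- elements of `P` centralised by `g` modulo `N` -/
def fixMod (P N : Subgroup G) (hn : P ≤ 𝐍(N)) (g : G) (hg : g ∈ 𝐍(P)) : Subgroup G where
  carrier := {t | t ∈ P ∧ g * t⁻¹ * g⁻¹ * t ∈ N}
  one_mem' := ⟨P.one_mem, by simp⟩
  mul_mem' := fun {a b} ha hb => ⟨mul_mem ha.1 hb.1, by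
    have := mul_mem (Coprime.conj_mem hn (Coprime.conj_mem le_rfl hg (inv_mem hb.1)) ha.2) hb.2
    convert this using 1; group⟩
  inv_mem' := fun {a} ha => ⟨inv_mem ha.1, by
    have := Coprime.conj_mem hn ha.1 (inv_mem ha.2)
    convert this using 1; group⟩

theorem le_relIndex_of_fpf (hR : (Nat.card R).Prime) (hRP : R ≤ 𝐍(P)) (hc : (Nat.card R).Coprime (Nat.card P))
    (hf : P ⊓ 𝐂(R) ≤ B) (h1 : ⁅P, P⁆ ≤ B) (hB : B ≤ P) (hRB : R ≤ 𝐍(B)) (hne : ¬ P ≤ B) :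
    Nat.card R + 1 ≤ B.relIndex P := by
  have h2 := fb_card_dvd hRP hB (le_norm_of_der_le h1 hB) hRB hc fun a ha ha1 => by
    rwa [Coprime.centralizer_singleton_eq_of_card_prime hR ha ha1]
  have h3 : B.relIndex P ≠ 1 := fun e => hne (relIndex_eq_one.1 e)
  have h4 : B.relIndex P ≠ 0 := relIndex_ne_zero'
  have := Nat.le_of_dvd (by omega) h2
  omega

/-- step 1 of the fixed-point-free case -/
theorem step1 [IsMulCommutative V] (hR : (Nat.card R).Prime) (hp : p.Prime) (hP : IsPGroup p P) (hΩ : Om P V Ω)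
    (hPV : P ≤ 𝐍(V)) (hRV : R ≤ 𝐍(V)) (hRP : R ≤ 𝐍(P)) (hc : (Nat.card R).Coprime (Nat.card P)) (hPR : ⁅P, R⁆ = P)
    (hVP : ⁅V, P⁆ = V) (hJP : J ≤ 𝐍(P)) (hJR : J ≤ 𝐂(R)) (hcJ : (Nat.card J).Coprime (Nat.card R)) (hPJ : ⁅P, J⁆ = P)
    (hJ : ⁅V ⊓ 𝐂(R), J⁆ ≤ V0 V R Ω) : V ⊓ 𝐂(R) ⊓ V0 V R Ω = ⊥ := by
  classical
  refine eq_bot_iff.2 fun w hw => mem_bot.2 (hΩ.sep w hw.1.1 fun A hA => ?_)
  by_contra hwA
  have hRA : ⁅V, R⁆ ≤ A := by_contra fun e => hwA ((mem_V0.1 hw.2).2 A hA e)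
  have hAV := hΩ.le A hA
  have hVA : V ≤ 𝐍(A) := le_norm_of_le_cent ((le_centralizer V).trans (centralizer_le hAV))
  set N := (centQuo A V ⊓ P) ⊔ ⁅P, P⁆
  have hN : N ≤ P := sup_le inf_le_right (Subgroup.commutator_le_self P)
  have hPN : P ≤ 𝐍(N) := le_norm_of_der_le le_sup_right hN
  have hRN : R ≤ 𝐍(N) := le_normalizer_sup (le_normalizer_inf (le_norm_centQuo (fe_norm_of_der hRA hAV) hRV) hRP)
    (le_norm_der hRP)
  have hf : P ⊓ 𝐂(R) ≤ ⁅P, P⁆ := fe_cent_le hRP hc hPR le_rfl (Subgroup.commutator_le_self P) (le_norm_der hRP) inf_le_left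
    (comm_bot_le inf_le_right)
  have hF : ∀ t ∈ P, ⁅V, R⁆ ≤ cj t A → t ∈ N := fun t ht h =>
    (sup_le (hf.trans le_sup_right) le_sup_left : _ ≤ N) (fixed_mem hAV hRA hPV hRP hc (solvable_of_pgroup hp hP) ht h)
  have hne : ¬ P ≤ N := fun e => hwA (commutator_le_of_le_centQuo hVA
    ((eq_of_sup_der hp hP inf_le_right e).ge.trans inf_le_left) (hVP.ge hw.1.1))
  obtain ⟨h, hh, hhN⟩ : ∃ h ∈ J, h ∉ centQuo N P := by
    by_contra e
    push Not at e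
    exact hne (hPJ.ge.trans (commutator_le_of_le_centQuo hPN e))
  haveI := Fintype.ofFinite R
  have hg : ∀ a : R, h * a ∈ 𝐍(P) := fun a => mul_mem (hJP hh) (hRP a.2)
  obtain ⟨t, ht, h1⟩ := exists_not_mem (P := P) (Finset.univ : Finset (Option R))
    (fun o => o.elim N fun a => fixMod P N hPN (h * a) (hg a))
    (by rw [Finset.card_univ, Fintype.card_option, ← Nat.card_eq_fintype_card]; have := hR.two_le; omega) fun o _ => by
      rw [Finset.card_univ, Fintype.card_option, ← Nat.card_eq_fintype_card]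
      rcases o with _ | a
      · exact ⟨hN, le_relIndex_of_fpf hR hRP hc (hf.trans le_sup_right) le_sup_right hN hRN hne⟩
      have h2 : ⁅P, P⁆ ≤ fixMod P N hPN (h * a) (hg a) := fun z hz => ⟨Subgroup.commutator_le_self P hz, mem_sup_right
        (mul_mem (Coprime.conj_mem (le_norm_der le_rfl) (hg a) (inv_mem hz)) hz)⟩
      refine ⟨fun _ hx => hx.1, le_relIndex_of_fpf hR hRP hc (hf.trans h2) h2 (fun _ hx => hx.1)
        (Clifford.Nrm.le_normalizer fun b hb x hx => ⟨Coprime.conj_mem hRP hb hx.1, ?_⟩) fun e => hhN ?_⟩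
      · haveI := Fact.mk hR
        haveI := PGrp.isMulCommutative_of_isCyclic (C := R) (isCyclic_of_prime_card rfl)
        have e : b * (h * a) * b⁻¹ = h * a := by
          rw [← mul_assoc, hJR hh b hb, mul_assoc h, Coprime.mul_comm_of_mem hb a.2]; group
        have := Coprime.conj_mem hRN hb hx.2
        convert this using 1
        conv_lhs => rw [← e]
        group
      · have h3 : h * a ∈ centQuo N P := by
          refine mem_centQuo_of hPN ((Clifford.Nrm.le_normalizer (K := zpowers (h * a)) (N := N) ?_) (mem_zpowers _))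
            fun t ht => ?_
          · refine Clifford.nrm_of_le_normalizer (zpowers_le.2 (mem_normalizer_of_cj_le (cj_le_iff'.2 fun n hn => ?_)))
            have := mul_mem (e (inv_mem (hN hn))).2 hn
            simpa [mul_assoc] using this
          · have := inv_mem (e (inv_mem ht)).2
            convert this using 1
            rw [commutatorElement_def]; group
        by_cases ha : (a : G) = 1
        · rwa [ha, mul_one] at h3
        have h4 : (h * a) ^ Nat.card J = a ^ Nat.card J := by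
          rw [(show Commute h a from (hJR hh a a.2).symm).mul_pow, orderOf_dvd_iff_pow_eq_one.1 (J.orderOf_dvd_natCard hh),
            one_mul]
        have h5 : (a : G) ^ Nat.card J ≠ 1 := fun e => ha (orderOf_eq_one_iff.1
          ((hcJ.coprime_dvd_right (R.orderOf_dvd_natCard a.2)).symm.eq_one_of_dvd (orderOf_dvd_of_pow_eq_one e)))
        refine absurd (hPR.ge.trans (commutator_le_of_le_centQuo hPN ?_)) hne
        rw [← Coprime.zpowers_eq_of_card_prime hR (pow_mem a.2 _) h5, zpowers_le, ← h4]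
        exact pow_mem h3 _
  have htN : t ∉ N := h1 none (Finset.mem_univ _)
  obtain ⟨v, hv, h2, h3⟩ := norm_not_mem hΩ hA le_rfl hPV hRV hRP hw.1.1 hw.1.2 hw.2 hwA ht fun a ha ha1 e =>
    htN (not_mem_of_fpf hR hRP hc hPR le_sup_right hN hRN ht ha ha1
      (hF _ (mul_mem (Coprime.conj_mem hRP ha (inv_mem ht)) ht) e))
  have h4 : ∀ x ∈ V ⊓ 𝐂(R), h * x * h⁻¹ * x⁻¹ ∈ V0 V R Ω := fun x hx =>
    hJ (commutator_comm J _ ▸ commutator_mem_commutator hh hx)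
  have h5 := (mem_V0.1 (h4 v hv)).2 _ (hΩ.inv A hA t ht) fun e => htN (hF t ht e)
  refine h2 (inv_mem_iff.1 ((mul_mem_cancel_left (?_ : h * v * h⁻¹ ∈ cj t A)).1 h5))
  have h6 := h3 (cj h⁻¹ (cj t A)) fun a ha => ?_
  · rwa [mem_cj, inv_inv] at h6
  have h7 : h * w * h⁻¹ ∈ V0 V R Ω := by simpa using mul_mem (h4 w hw.1) hw.2
  have h8 := mul_mem (Coprime.conj_mem le_rfl (hg ⟨a, ha⟩) (inv_mem ht)) ht
  have h9 := (mem_V0.1 h7).2 _ (hΩ.inv A hA _ h8) fun e => h1 (some ⟨a, ha⟩) (Finset.mem_univ _) ⟨ht, hF _ h8 e⟩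
  rw [mem_cj] at h9
  rw [mem_cj, mem_cj]
  have e1 := hw.1.2 a ha
  have e2 := hJR hh a ha
  convert h9 using 1
  rw [show (h * a * t⁻¹ * (h * a)⁻¹ * t)⁻¹ * (h * w * h⁻¹) * (h * a * t⁻¹ * (h * a)⁻¹ * t) =
    t⁻¹ * h * a * t * (a⁻¹ * (w * a)) * t⁻¹ * a⁻¹ * h⁻¹ * t by group, ← e1]
  group

end Cfsg.Lib.Tur
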