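import Cfsg.Agent.Lib.Tur.C

/-! One level of a tower: the support of a class two group on a module. -/

set_option autoImplicit false
set_option linter.unusedSectionVars false

namespace Cfsg.Lib.Tur
open Subgroup Cfsg.Lib.Core Cfsg.Lib.Amalg Cfsg.Lib.BG1 Cfsg.Lib.Clifford Cfsg.Lib.Char Cfsg.Lib.Hall
open scoped commutatorElement IsMulCommutative

variable {G : Type*} [Group G] [Finite G] {A B D E H J K L M N P Q R S T U V W X Y Z Z0 : Subgroup G}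
  {Ω : Set (Subgroup G)} {p q r l s : ℕ} {χ : G → ℂ}

theorem der_exp (h2 : ⁅P, P⁆ ≤ 𝐂(P)) (h : ∀ x ∈ P, x ^ p ∈ ⁅P, P⁆) : ∀ z ∈ ⁅P, P⁆, z ^ p = 1 := by
  intro z hz
  rw [Subgroup.commutator_def] at hz
  induction hz using closure_induction with
  | mem x hx =>
    obtain ⟨a, ha, b, hb, rfl⟩ := hx
    rw [← PGrp.commutator_pow_left (h2 (commutator_mem_commutator ha hb) a ha).symm,
      commutatorElement_eq_one_iff_mul_comm]
    exact (h2 (h a ha) b hb).symm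
  | one => exact one_pow _
  | mul x y hx hy ihx ihy =>
    rw [(show Commute x y from h2 hy x (Subgroup.commutator_le_self P hx)).mul_pow, ihx, ihy, one_mul]
  | inv x _ ih => rw [inv_pow, ih, inv_one]

def Good (p : ℕ) (V Z Z0 : Subgroup G) : Prop := Z0 ≤ Z ∧ Z0.relIndex Z = p ∧ V ⊓ 𝐂(Z0) ≠ ⊥

theorem Good.eq_bot (h : Good p V Z Z0) (hp : p.Prime) (hZ : V ⊓ 𝐂(Z) = ⊥) (hX : X ≤ Z) (hX' : ¬ X ≤ Z0)
    (hU : U ≤ V ⊓ 𝐂(Z0)) (hUX : U ≤ 𝐂(X)) : U = ⊥ := by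
  have h1 := (fe_eq_or_of_relIndex (h.2.1 ▸ hp) le_sup_left (sup_le h.1 hX)).resolve_left fun e =>
    hX' (le_sup_right.trans e.le)
  rw [eq_bot_iff, ← hZ, ← h1, centralizer_sup]
  exact le_inf (hU.trans inf_le_left) (le_inf (hU.trans inf_le_right) hUX)

theorem Good.ne_bot (h : Good p V Z Z0) (hp : p.Prime) : Z ≠ ⊥ := by
  rintro rfl
  exact hp.one_lt.ne' (h.2.1.symm.trans (relIndex_bot_right _))

theorem Good.conj (h : Good p V Z Z0) {g : G} (hV : g ∈ 𝐍(V)) (hZ : g ∈ 𝐍(Z)) : Good p V Z (cj g Z0) := by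
  refine ⟨cj_le_of_le_of_mem_normalizer h.1 hZ, ?_, ?_⟩
  · rw [← h.2.1, ← relIndex_cj g Z0 Z, cj_of_mem_normalizer hZ]
  · rw [← cj_centralizer, ← cj_of_mem_normalizer hV, ← cj_inf, Ne, cj_eq_bot_iff]
    exact h.2.2

theorem good_sep [IsMulCommutative Z] (hp : p.Prime) (he : ∀ z ∈ Z, z ^ p = 1) (hZV : Z ≤ 𝐍(V))
    (hc : (Nat.card Z).Coprime (Nat.card V)) (hf : Z ⊓ 𝐂(V) = ⊥) {x : G} (hx : x ∈ Z) (hx1 : x ≠ 1) :
    ∃ Z0, Good p V Z Z0 ∧ x ∉ Z0 := by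
  haveI := Fact.mk hp
  by_contra h
  push Not at h
  refine hx1 (mem_bot.1 (hf.le ⟨hx, zpowers_le.1 (BG1.le_cent_symm (Coprime.le_of_forall_hyperplane he
    (fun e => hx1 (mem_bot.1 (e.le hx))) hZV hc fun B hB hBp => ?_))⟩))
  by_cases e : V ⊓ 𝐂(B) = ⊥
  · exact e.le.trans bot_le
  · exact inf_le_right.trans (centralizer_le (zpowers_le.2 (h B ⟨hB, hBp, e⟩)))

theorem eq_comm_of_cent [IsMulCommutative V] (hU : U ≤ V) (hX : X ≤ 𝐍(U)) (hc : (Nat.card X).Coprime (Nat.card V))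
    (h : U ⊓ 𝐂(X) = ⊥) : ⁅U, X⁆ = U := by
  haveI : IsMulCommutative U := ⟨⟨fun a b => Subtype.ext (Coprime.mul_comm_of_mem (hU a.2) (hU b.2))⟩⟩
  have := Coprime.centralizer_sup_commutator_eq hX (Coprime.coprime_card_of_le hc le_rfl hU)
  rwa [h, bot_sup_eq] at this

theorem comm_inf_cent [IsMulCommutative V] (hXR : X ≤ 𝐂(R)) (hXV : X ≤ 𝐍(V)) (hRV : R ≤ 𝐍(V))
    (hc : (Nat.card R).Coprime (Nat.card V)) : ⁅V, X⁆ ⊓ 𝐂(R) ≤ ⁅V ⊓ 𝐂(R), X⁆ := by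
  have h1 : X ≤ 𝐍(V ⊓ 𝐂(R)) := le_normalizer_inf hXV (hXR.trans le_normalizer)
  have h2 : X ≤ 𝐍(⁅V, R⁆) := le_normalizer_commutator hXV (le_norm_of_le_cent hXR)
  have h3 : ⁅V ⊓ 𝐂(R), X⁆ ≤ V ⊓ 𝐂(R) := commutator_le_left_of_norm h1
  have h4 : ⁅V, R⁆ ≤ V := commutator_le_left_of_norm hRV
  have h5 : V ≤ 𝐍(⁅V ⊓ 𝐂(R), X⁆ ⊔ ⁅V, R⁆) :=
    le_norm_of_le_cent ((le_centralizer V).trans (centralizer_le (sup_le (h3.trans inf_le_left) h4)))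
  have h6 : ⁅V, X⁆ ≤ ⁅V ⊓ 𝐂(R), X⁆ ⊔ ⁅V, R⁆ :=
    (commutator_mono (Coprime.centralizer_sup_commutator_eq hRV hc).ge le_rfl).trans (sup_comm_le
      (le_normalizer_sup (le_norm_commutator_right _ _) h2) (inf_le_left.trans h5) (h4.trans h5) le_sup_left
      ((commutator_le_left_of_norm h2).trans le_sup_right))
  refine (inf_le_inf_right _ h6).trans ?_
  rw [sup_inf_of_le_normalizer (h3.trans inf_le_right) (le_norm_of_le_cent ((h3.trans inf_le_left).trans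
    ((le_centralizer V).trans (centralizer_le h4)))), coprime_abelian_cent_TI hRV hc inferInstance, sup_bot_eq]

theorem le_norm_V0 (hΩ : Om L V Ω) (hX : X ≤ L) (hXV : X ≤ 𝐍(V)) (hXR : X ≤ 𝐍(R)) : X ≤ 𝐍(V0 V R Ω) :=
  Nrm.le_normalizer fun g hg v hv => mem_V0.2 ⟨Coprime.conj_mem hXV hg (mem_V0.1 hv).1, fun A hA hA' => by
    have := (mem_V0.1 hv).2 _ (hΩ.inv A hA g⁻¹ (inv_mem (hX hg))) fun e => hA' (by
      rwa [← cj_le_iff, cj_of_mem_normalizer (le_normalizer_commutator hXV hXR hg)] at e)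
    rwa [mem_cj, inv_inv] at this⟩

/-- the support family of `P` on `V` -/
def OmP (p : ℕ) (V P : Subgroup G) : Set (Subgroup G) := {A | (⁅P, P⁆ = ⊥ ∧ Good p V P A) ∨
  ∃ Z0 y, Good p V ⁅P, P⁆ Z0 ∧ y ∈ P ∧ A ≤ P ∧ ∀ x ∈ P, (x ∈ A ↔ ⁅x, y⁆ ∈ Z0)}

theorem OmP.le (h : A ∈ OmP p V P) : A ≤ P := h.elim (fun h => h.2.1) fun ⟨_, _, h⟩ => h.2.2.1

theorem OmP.der_le (h2 : ⁅P, P⁆ ≤ 𝐂(P)) (h : A ∈ OmP p V P) : ⁅P, P⁆ ≤ A :=
  h.elim (fun h => h.1.le.trans bot_le) fun ⟨Z0, y, h⟩ z hz => (h.2.2.2 z (Subgroup.commutator_le_self P hz)).2 (by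
    rw [commutatorElement_eq_one_iff_mul_comm.2 (h2 hz y h.2.1).symm]; exact one_mem _)

theorem OmP.conj (h : A ∈ OmP p V P) {g : G} (hV : g ∈ 𝐍(V)) (hP : g ∈ 𝐍(P)) : cj g A ∈ OmP p V P := by
  rcases h with h | ⟨Z0, y, h1, hy, hA, h⟩
  · exact Or.inl ⟨h.1, h.2.conj hV hP⟩
  · refine Or.inr ⟨_, g * y * g⁻¹, h1.conj hV (le_norm_der le_rfl hP), Coprime.conj_mem le_rfl hP hy,
      cj_le_of_le_of_mem_normalizer hA hP, fun x hx => ?_⟩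
    rw [mem_cj, mem_cj, h _ (Coprime.conj_mem' le_rfl hP hx)]
    simp [commutatorElement_def, mul_assoc]

structure Lev (p s : ℕ) (L P H V R : Subgroup G) : Prop where
  hp : p.Prime
  hs : s.Prime
  hR : (Nat.card R).Prime
  hP : IsPGroup p P
  hH : IsPGroup s H
  comm : IsMulCommutative V
  hPL : P ≤ L
  hLP : L ≤ 𝐍(P)
  hLV : L ≤ 𝐍(V)
  hRV : R ≤ 𝐍(V)
  hRP : R ≤ 𝐍(P)
  hHP : H ≤ 𝐍(P)
  hRH : R ≤ 𝐍(H)
  cRP : (Nat.card R).Coprime (Nat.card P)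
  cRV : (Nat.card R).Coprime (Nat.card V)
  cPV : (Nat.card P).Coprime (Nat.card V)
  cHP : (Nat.card H).Coprime (Nat.card P)
  cRH : (Nat.card R).Coprime (Nat.card H)
  h2 : ⁅P, P⁆ ≤ 𝐂(P)
  hHZ : H ≤ 𝐂(⁅P, P⁆)
  hPH : ⁅P, H⁆ = P
  exp : ∀ x ∈ P, x ^ p ∈ ⁅P, P⁆
  hZ : ⁅P, P⁆ = ⊥ ∨ P ⊓ 𝐂(P) ≤ ⁅P, P⁆
  faith : P ⊓ 𝐂(V) = ⊥
  irr : ∀ X ≤ P, X ≠ ⊥ → L ≤ 𝐍(X) → R ≤ 𝐍(X) → V ⊓ 𝐂(X) = ⊥

namespace Lev
variable (h : Lev p s L P H V R)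
include h

theorem hPV : P ≤ 𝐍(V) := h.hPL.trans h.hLV

theorem solV : Group.IsSolvable V := by haveI := h.comm; exact Coprime.isSolvable_of_isMulCommutative V

theorem cZ (hg : Good p V ⁅P, P⁆ Z0) : V ⊓ 𝐂(⁅P, P⁆) = ⊥ :=
  h.irr _ (Subgroup.commutator_le_self P) (hg.ne_bot h.hp) (le_norm_der h.hLP) (le_norm_der h.hRP)

theorem normZ (hg : Good p V ⁅P, P⁆ Z0) : P ≤ 𝐍(Z0) := le_norm_of_le_cent (BG1.le_cent_symm (hg.1.trans h.h2))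

theorem normU (hg : Good p V ⁅P, P⁆ Z0) : P ≤ 𝐍(V ⊓ 𝐂(Z0)) :=
  le_normalizer_inf h.hPV ((h.normZ hg).trans (PGrp.normalizer_le_normalizer_centralizer' _))

theorem sep {z : G} (hz : z ∈ ⁅P, P⁆) (h1 : z ≠ 1) : ∃ Z0, Good p V ⁅P, P⁆ Z0 ∧ z ∉ Z0 := by
  haveI := fb_der_comm h.h2
  have h3 := Subgroup.commutator_le_self P
  exact good_sep h.hp (der_exp h.h2 h.exp) (h3.trans h.hPV) (Coprime.coprime_card_of_le h.cPV h3 le_rfl)
    (le_bot_iff.1 ((inf_le_inf_right _ h3).trans h.faith.le)) hz h1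

theorem om_sep {x : G} (hx : x ∈ P) (hA : ∀ A ∈ OmP p V P, x ∈ A) : x ∈ ⁅P, P⁆ := by
  rcases h.hZ with e | e
  · haveI : IsMulCommutative P := le_centralizer_iff_isMulCommutative.1 (commutator_eq_bot_iff_le_centralizer.1 e)
    by_contra hx1
    obtain ⟨A, h1, h2⟩ := good_sep h.hp (fun z hz => mem_bot.1 (e.le (h.exp z hz))) h.hPV h.cPV h.faith hx
      (by rintro rfl; exact hx1 (one_mem _))
    exact h2 (hA A (Or.inl ⟨e, h1⟩))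
  · refine e ⟨hx, fun y hy => ?_⟩
    rw [eq_comm, ← commutatorElement_eq_one_iff_mul_comm]
    by_contra h1
    obtain ⟨Z0, h2, h3⟩ := h.sep (commutator_mem_commutator hx hy) h1
    have h4 : ∀ t ∈ P, t ∈ fixMod P Z0 (h.normZ h2) y (le_normalizer hy) ↔ ⁅t, y⁆ ∈ Z0 := fun t ht => by
      rw [← inv_mem_iff]
      refine ⟨fun e => ?_, fun e => ⟨inv_mem ht, ?_⟩⟩
      · simpa [commutatorElement_def, mul_assoc] using inv_mem e.2
      · simpa [commutatorElement_def, mul_assoc] using inv_mem e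
    exact h3 ((h4 x hx).1 (hA _ (Or.inr ⟨Z0, y, h2, hy, fun _ ht => ht.1, h4⟩)))

theorem sy (hg : Good p V ⁅P, P⁆ Z0) (hU : U ≤ V ⊓ 𝐂(Z0)) (hU0 : U ≠ ⊥) (hK : P ≤ K) (hχ : CharOn K χ)
    (hd : ∀ A ≤ K, dot A χ 1 = (ArithmeticFunction.cardFactors (Nat.card ↥(U ⊓ 𝐂(A))) : ℕ)) :
    Sy p P Z0 (P ⊓ 𝐂(U)) χ := by
  have h1 := hg.1.trans (Subgroup.commutator_le_self P)
  refine ⟨h.hp, h.hP, h.h2, hg.1, le_inf h1 (BG1.le_cent_symm (hU.trans inf_le_right)), inf_le_left, hχ.mono hK, fun e => ?_,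
    (Coprime.triv_iff_le_centralizer_of_lift hχ hd (inf_le_left.trans hK)).2 inf_le_right, fun z hz hz' => ?_⟩
  · have h2 := hd ⊥ bot_le
    rw [dot_bot, e, zero_mul, inf_eq_left.2 (le_cent_bot U), eq_comm, Nat.cast_eq_zero,
      ArithmeticFunction.cardFactors_eq_zero_iff_eq_zero_or_one, or_iff_right Nat.card_pos.ne', card_eq_one] at h2
    exact hU0 h2
  · rw [hd _ (zpowers_le.2 (hK (Subgroup.commutator_le_self P hz))), hg.eq_bot h.hp (h.cZ hg) (zpowers_le.2 hz)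
      (mt zpowers_le.1 hz') (inf_le_left.trans hU) inf_le_right, card_bot]
    simp

theorem lift (hg : Good p V ⁅P, P⁆ Z0) (hRZ : ⁅⁅P, P⁆, R⁆ ≤ Z0) : ∃ χ, CharOn (P ⊔ R) χ ∧
    (∀ A ≤ P ⊔ R, dot A χ 1 = (ArithmeticFunction.cardFactors (Nat.card ↥(V ⊓ 𝐂(Z0) ⊓ 𝐂(A))) : ℕ)) ∧
    Sy p P Z0 (P ⊓ 𝐂(V ⊓ 𝐂(Z0))) χ := by
  obtain ⟨χ, hχ, hd⟩ := Coprime.exists_brauer_lift (sup_le (h.normU hg) (le_normalizer_inf h.hRV
    ((fe_norm_of_der hRZ hg.1).trans (PGrp.normalizer_le_normalizer_centralizer' _))))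
    (Coprime.coprime_card_of_le (coprime_sup h.hRP h.cPV h.cRV) le_rfl inf_le_left) (solvable_of_le inf_le_left h.solV)
  exact ⟨χ, hχ, hd, h.sy hg le_rfl hg.2.2 le_sup_left hχ hd⟩

theorem notle (hΩ : Om P V Ω) (hg : Good p V ⁅P, P⁆ Z0) (hRZ : ⁅⁅P, P⁆, R⁆ ≤ Z0) (hne : ¬ ⁅P, R⁆ ≤ rad Z0 P) :
    ¬ V ⊓ 𝐂(Z0) ⊓ 𝐂(R) ≤ V0 V R Ω := fun h0 => by
  haveI := h.comm
  obtain ⟨χ, hχ, hd, hs⟩ := h.lift hg hRZ
  have hS : ⁅P, R⁆ ≤ P := commutator_le_left_of_norm h.hRP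
  have hRZ0 := fe_norm_of_der hRZ hg.1
  have hRU : R ≤ 𝐍(V ⊓ 𝐂(Z0)) := le_normalizer_inf h.hRV (hRZ0.trans (PGrp.normalizer_le_normalizer_centralizer' _))
  have h1 : V ⊓ 𝐂(Z0) ⊓ 𝐂(⁅P, R⁆) = ⊥ := hg.eq_bot h.hp (h.cZ hg) (commutator_mono le_rfl hS)
    (fun e => hne ((le_rad_iff (h.normZ hg) hS).2 e)) inf_le_left (inf_le_right.trans (centralizer_le
      (commutator_le_right_of_norm (le_norm_commutator_left P R))))
  have h2 := eq_comm_of_cent inf_le_left (hS.trans (h.normU hg)) (Coprime.coprime_card_of_le h.cPV hS le_rfl) h1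
  have h3 := om1 h.hR h.hp (h.hP.to_le hS) (hΩ.mono hS) (hS.trans h.hPV) h.hRV (le_norm_commutator_right P R)
    (Coprime.coprime_card_of_le h.cRP le_rfl hS) (Coprime.commutator_commutator_eq h.hRP h.cRP)
    (h2.ge.trans (commutator_mono inf_le_left le_rfl)) (hS.trans (h.normU hg)) hRU h0
  have hRD := le_norm_rad h.hRP hRZ0
  refine hne (hs.lemY h.hR hχ (by rw [hd _ le_sup_right, h3, card_bot]; simp) h.hRP h.cRP hRZ h.hs h.hH h.cHP h.cRH h.hHP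
    h.hRH h.hHZ h.hPH (le_inf ((commutator_le_left_of_norm hRD).trans rad_le) (ab h.hR (solvable_of_le inf_le_left h.solV)
      (rad_le.trans (h.normU hg)) hRU hRD (Coprime.coprime_card_of_le h.cRP le_rfl rad_le)
      (Coprime.coprime_card_of_le h.cRV le_rfl inf_le_left) (Coprime.coprime_card_of_le h.cPV rad_le inf_le_left)
      (((commutator_mono rad_le le_rfl).trans hs.comm_rad).trans (BG1.le_cent_symm inf_le_right)) h3)))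

theorem z_mem (hΩ : Om P V Ω) (hg : Good p V ⁅P, P⁆ Z0) (hRZ : ⁅⁅P, P⁆, R⁆ ≤ Z0) (hne : ¬ ⁅P, R⁆ ≤ rad Z0 P)
    (hX : X ≤ ⁅P, P⁆) (hXR : X ≤ 𝐂(R)) (hK : ⁅V ⊓ 𝐂(R), X⁆ ≤ V0 V R Ω) : X ≤ Z0 := by
  haveI := h.comm
  by_contra hX'
  have hXP := hX.trans (Subgroup.commutator_le_self P)
  have h2 := eq_comm_of_cent inf_le_left (hXP.trans (h.normU hg)) (Coprime.coprime_card_of_le h.cPV hXP le_rfl)
    (hg.eq_bot h.hp (h.cZ hg) hX hX' inf_le_left inf_le_right)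
  exact h.notle hΩ hg hRZ hne ((inf_le_inf_right _ (h2.ge.trans (commutator_mono inf_le_left le_rfl))).trans
    ((comm_inf_cent hXR (hXP.trans h.hPV) h.hRV h.cRV).trans hK))

theorem cc (hΩ : Om P V Ω) [IsMulCommutative T] (hT : T ≤ P) (hRT : R ≤ 𝐍(T)) (hX : X ≤ P) (hXR : X ≤ 𝐂(R))
    (hTX : T ≤ 𝐂(X)) (hK : ⁅V ⊓ 𝐂(R), X⁆ ≤ V0 V R Ω) : ⁅T, R⁆ ≤ 𝐂(⁅V, X⁆) := by
  haveI := h.comm
  exact comm_cent h.hR h.hp (h.hP.to_le hT) (hΩ.mono hT) (hT.trans h.hPV) h.hRV hRT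
    (Coprime.coprime_card_of_le h.cRP le_rfl hT) h.cRV (Coprime.coprime_card_of_le h.cPV hT le_rfl)
    (commutator_le_left_of_norm (hX.trans h.hPV)) (le_normalizer_commutator (hT.trans h.hPV) (le_norm_of_le_cent hTX))
    (le_normalizer_commutator h.hRV (le_norm_of_le_cent (BG1.le_cent_symm hXR)))
    ((comm_inf_cent hXR (hX.trans h.hPV) h.hRV h.cRV).trans hK)

theorem lemB (hΩ : Om P V Ω) (hX : X ≤ P) (hXR : X ≤ 𝐂(R)) (hK : ⁅V ⊓ 𝐂(R), X⁆ ≤ V0 V R Ω) (hA : A ∈ OmP p V P)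
    (hm : ¬ ⁅P, R⁆ ≤ A) : X ≤ A := by
  haveI := h.comm
  have hS : ⁅P, R⁆ ≤ P := commutator_le_left_of_norm h.hRP
  rcases hA with ⟨e, hg⟩ | ⟨Z0, y, hg, hy, hAP, hA⟩
  · have hc := commutator_eq_bot_iff_le_centralizer.1 e
    haveI : IsMulCommutative P := le_centralizer_iff_isMulCommutative.1 hc
    by_contra hX'
    have h0 := h.irr P le_rfl (hg.ne_bot h.hp) h.hLP h.hRP
    have h1 := h.cc hΩ le_rfl h.hRP hX hXR (hc.trans (centralizer_le hX)) hK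
    have h2 := eq_comm_of_cent (U := V ⊓ 𝐂(A)) inf_le_left (le_normalizer_inf (hX.trans h.hPV) ((hX.trans (hc.trans
      (centralizer_le hg.1))).trans le_normalizer)) (Coprime.coprime_card_of_le h.cPV hX le_rfl)
      (hg.eq_bot h.hp h0 hX hX' inf_le_left inf_le_right)
    exact hg.2.2 (hg.eq_bot h.hp h0 hS hm le_rfl ((h2.ge.trans (commutator_mono inf_le_left le_rfl)).trans
      (BG1.le_cent_symm h1)))
  intro x hx
  rw [hA x (hX hx)]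
  have hPZ := Subgroup.commutator_le_self P
  by_cases hRZ : ⁅⁅P, P⁆, R⁆ ≤ Z0
  · have hne : ¬ ⁅P, R⁆ ≤ rad Z0 P := fun e => hm fun t ht => (hA t (hS ht)).2
      ((le_rad_iff (h.normZ hg) hS).1 e (commutator_comm _ P ▸ commutator_mem_commutator ht hy))
    obtain ⟨χ, -, -, hs⟩ := h.lift hg hRZ
    obtain ⟨u, hu, c, hc, rfl⟩ := Coprime.exists_commutator_mul_centralizer h.hRP h.cRP (Or.inr hs.sol) hy
    have h1 : ⁅x, u⁆ ∈ Z0 := hs.cent_comm le_rfl h.hRP hRZ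
      (commutator_comm _ ⁅P, R⁆ ▸ commutator_mem_commutator (show x ∈ P ⊓ 𝐂(R) from ⟨hX hx, hXR hx⟩) hu)
    have hC : P ⊓ 𝐂(R) ≤ 𝐍(V0 V R Ω) := le_norm_V0 hΩ inf_le_left (inf_le_left.trans h.hPV) (le_norm_of_le_cent inf_le_right)
    have hV : V ⊓ 𝐂(R) ≤ 𝐍(V0 V R Ω) :=
      le_norm_of_le_cent (inf_le_left.trans ((le_centralizer V).trans (centralizer_le inf_le_left)))
    have h2 : ⁅X, P ⊓ 𝐂(R)⁆ ≤ Z0 := h.z_mem hΩ hg hRZ hne (commutator_mono hX inf_le_left)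
      ((commutator_mono hXR inf_le_right).trans (Subgroup.commutator_le_self _)) (commutator_le_of_le_centQuo hV
        ((commutator_mono (le_centQuo hV ((le_inf hX hXR).trans hC) hK) le_rfl).trans (commutator_le_left_of_norm
        (le_norm_centQuo hC (le_normalizer_inf (inf_le_left.trans h.hPV) (inf_le_right.trans le_normalizer))))))
    have := mul_mem h1 (Coprime.conj_mem (h.normZ hg) (hS hu) (h2 (commutator_mem_commutator hx hc)))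
    convert this using 1
    simp [commutatorElement_def, mul_assoc]
  · haveI := fb_der_comm h.h2
    have h1 := h.cc hΩ hPZ (le_norm_der h.hRP) hX hXR (h.h2.trans (centralizer_le hX)) hK
    have h2 : ⁅V ⊓ 𝐂(Z0), X⁆ = ⊥ := hg.eq_bot h.hp (h.cZ hg) (commutator_le_left_of_norm (le_norm_der h.hRP)) hRZ
      (commutator_le_left_of_norm (hX.trans (h.normU hg))) ((commutator_mono inf_le_left le_rfl).trans (BG1.le_cent_symm h1))
    have h3 : ⁅X, P⁆ ≤ 𝐂(V ⊓ 𝐂(Z0)) := (commutator_mono (BG1.le_cent_symm (commutator_eq_bot_iff_le_centralizer.1 h2))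
      le_rfl).trans (commutator_le_left_of_norm ((h.normU hg).trans (PGrp.normalizer_le_normalizer_centralizer' _)))
    by_contra h4
    exact hg.2.2 (hg.eq_bot h.hp (h.cZ hg) (commutator_mono hX le_rfl) (fun e => h4 (e (commutator_mem_commutator hx hy)))
      le_rfl (BG1.le_cent_symm h3))

theorem exists_good (hne : ¬ P ≤ 𝐂(R)) (hZ : P ⊓ 𝐂(P) ≤ 𝐂(R)) : ∃ Z0, Good p V ⁅P, P⁆ Z0 ∧ ¬ ⁅P, R⁆ ≤ rad Z0 P := by
  have hS : ⁅P, R⁆ ≤ P := commutator_le_left_of_norm h.hRP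
  obtain ⟨z, hz, h1⟩ := (bot_or_exists_ne_one ⁅P, ⁅P, R⁆⁆).resolve_left fun e => hne (BG1.le_cent_symm
    (Coprime.le_centralizer_of_commutator_le_centralizer h.hRP h.cRP ((le_inf hS (BG1.le_cent_symm
      (commutator_eq_bot_iff_le_centralizer.1 e))).trans hZ)))
  obtain ⟨Z0, h2, h3⟩ := h.sep (commutator_mono le_rfl hS hz) h1
  exact ⟨Z0, h2, fun e => h3 ((le_rad_iff (h.normZ h2) hS).1 e hz)⟩

theorem lemC (hΩ : Om P V Ω) (hne : ¬ P ≤ 𝐂(R)) : ¬ V ⊓ 𝐂(R) ≤ V0 V R Ω := fun h0 => by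
  haveI := h.comm
  haveI : IsMulCommutative ↥(P ⊓ 𝐂(P)) := ⟨⟨fun a b => Subtype.ext (b.2.2 a a.2.1)⟩⟩
  have hn : R ≤ 𝐍(P ⊓ 𝐂(P)) := le_normalizer_inf h.hRP (h.hRP.trans (PGrp.normalizer_le_normalizer_centralizer' _))
  have h1 := comm_cent h.hR h.hp (h.hP.to_le inf_le_left) (hΩ.mono inf_le_left) (inf_le_left.trans h.hPV) h.hRV hn
    (Coprime.coprime_card_of_le h.cRP le_rfl inf_le_left) h.cRV (Coprime.coprime_card_of_le h.cPV inf_le_left le_rfl)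
    le_rfl (inf_le_left.trans h.hPV) h.hRV h0
  have h2 : P ⊓ 𝐂(P) ≤ 𝐂(R) := commutator_eq_bot_iff_le_centralizer.1 (le_bot_iff.1
    ((le_inf ((commutator_le_left_of_norm hn).trans inf_le_left) h1).trans h.faith.le))
  obtain ⟨Z0, h3, h4⟩ := h.exists_good hne h2
  exact h.notle hΩ h3 (comm_bot_le ((le_inf (Subgroup.commutator_le_self P) h.h2).trans h2)) h4
    ((inf_le_inf_right _ inf_le_left).trans h0)

end Lev

end Cfsg.Lib.Tur
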