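import Cfsg.Agent.Lib.Tur.D

/-! Character estimates for the fixed-point-free case. -/

set_option autoImplicit false
set_option linter.unusedSectionVars false

namespace Cfsg.Lib.Tur
open Subgroup Cfsg.Lib.Core Cfsg.Lib.Amalg Cfsg.Lib.BG1 Cfsg.Lib.Clifford Cfsg.Lib.Char Cfsg.Lib.Hall
open scoped commutatorElement IsMulCommutative ComplexConjugate

theorem num {p r s i j d n : ℕ} (hp : p.Prime) (hr : r.Prime) (hs : s.Prime) (hsr : s ≠ r) (hsp : s ≠ p)
    (hd : d ^ 2 = p ^ i * p ^ j) (hc : r ∣ p ^ i - 1) (hm : r ∣ p ^ j - 1) (hj : 1 < p ^ j) (h1 : d + 1 ≤ r * n + r)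
    (h2 : (r * n + 1 - r) ^ 2 ≤ p ^ i) (h3 : s * r ≤ d + 1) : d + 1 ≤ 2 * r := by
  have hr2 := hr.two_le
  have hp2 := hp.two_le
  by_cases hi : p ^ i = 1
  · rw [hi, sq_le_one_iff₀ (Nat.zero_le _)] at h2
    omega
  by_contra hlt
  have hi0 : 0 < p ^ i := by positivity
  have hc1 := Nat.le_of_dvd (by omega) hc
  have hm1 := Nat.le_of_dvd (by omega) hm
  obtain ⟨u, hu⟩ : ∃ u, d + 2 = u + 2 * r := ⟨d + 2 - 2 * r, by omega⟩
  have h4 : u ^ 2 ≤ p ^ i := (Nat.pow_le_pow_left (by omega) 2).trans h2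
  rcases hs.eq_two_or_odd' with rfl | hs'
  · have hpo : Odd p := hp.odd_of_ne_two hsp.symm
    have hro : Odd r := hr.odd_of_ne_two hsr.symm
    have h5 : ∀ k, 1 < p ^ k → r ∣ p ^ k - 1 → 2 * r + 1 ≤ p ^ k := fun k h h' => by
      have := Nat.le_of_dvd (by omega) ((Nat.Coprime.mul_dvd_of_dvd_of_dvd (Nat.coprime_two_left.2 hro)
        (even_iff_two_dvd.1 (Nat.Odd.sub_odd hpo.pow odd_one)) h'))
      omega
    have h6 := h5 i (by omega) hc
    have h7 := h5 j hj hm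
    have hr3 : 3 ≤ r := by obtain ⟨k, rfl⟩ := hro; omega
    have hp3 : 3 ≤ p := by obtain ⟨k, rfl⟩ := hpo; omega
    obtain ⟨a, -, rfl⟩ := (Nat.dvd_prime_pow hp).1 (show d ∣ p ^ (i + j) from ⟨d, by rw [pow_add, ← hd, sq]⟩)
    rw [← pow_mul, ← pow_add] at hd
    have h8 := Nat.pow_right_injective hp2 hd
    rcases lt_trichotomy i j with h | h | h
    · obtain ⟨e, rfl⟩ : ∃ e, a = i + (e + 1) := ⟨a - i - 1, by omega⟩
      have : 3 ≤ p ^ (e + 1) := hp3.trans (Nat.le_self_pow (by omega) p)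
      rw [pow_add] at hu
      have h9 := Nat.mul_le_mul_left (p ^ i) this
      have h10 : p ^ i < u := by omega
      nlinarith
    · obtain rfl : a = i := by omega
      obtain ⟨k, hk⟩ := hc
      have h9 : k ≤ n := by
        by_contra h9
        have : r * (n + 1) ≤ r * k := Nat.mul_le_mul_left _ (by omega)
        rw [mul_add, mul_one] at this
        omega
      have h10 := Nat.mul_le_mul_left r h9
      obtain ⟨w, hw⟩ : ∃ w, p ^ a = w + r := ⟨p ^ a - r, by omega⟩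
      have h11 : w ^ 2 ≤ p ^ a := (Nat.pow_le_pow_left (by omega) 2).trans h2
      nlinarith
    · obtain ⟨e, rfl⟩ : ∃ e, a = j + (e + 1) := ⟨a - j - 1, by omega⟩
      obtain rfl : i = j + (e + 1) * 2 := by omega
      obtain ⟨f, hf⟩ : ∃ f, p ^ (e + 1) = f + 3 := ⟨p ^ (e + 1) - 3, by
        have := hp3.trans (Nat.le_self_pow (n := e + 1) (by omega) p); omega⟩
      rw [pow_add, hf] at hu
      rw [pow_add, pow_mul, hf] at h4
      set m := p ^ j
      have h9 : m * (f + 2) ≤ u := by nlinarith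
      have h10 := (Nat.pow_le_pow_left h9 2).trans h4
      have h11 : m * (7 * (f + 2) ^ 2) ≤ (m * (f + 2)) ^ 2 := by
        rw [mul_pow, sq m, mul_assoc]
        exact Nat.mul_le_mul_left _ (Nat.mul_le_mul_right _ (by omega))
      have h12 := Nat.le_of_mul_le_mul_left (h11.trans h10) (by omega)
      nlinarith
  · have hs3 : 3 ≤ s := by have := hs.two_le; obtain ⟨k, rfl⟩ := hs'; omega
    have h5 : u ^ 2 * (r + 1) ≤ d ^ 2 := by rw [hd]; exact Nat.mul_le_mul h4 (by omega)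
    have h6 : 3 * r ≤ s * r := Nat.mul_le_mul_right _ hs3
    obtain ⟨k, hk⟩ : ∃ k, d + 1 = 3 * r + k := ⟨d + 1 - 3 * r, by omega⟩
    obtain rfl : u = r + 1 + k := by omega
    have h7 : ((r + 1 + k : ℕ) : ℤ) ^ 2 * (r + 1) ≤ (3 * r + k - 1) ^ 2 := by
      have e : (d : ℤ) = 3 * r + k - 1 := by omega
      rw [← e]; exact_mod_cast h5
    push_cast at h7
    have h8 : (0 : ℤ) ≤ k := by positivity
    have h9 : (2 : ℤ) ≤ r := by exact_mod_cast hr2
    have h10 : (0 : ℤ) ≤ k * (r ^ 2 - r + 2) := mul_nonneg h8 (by nlinarith)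
    have h11 : (0 : ℤ) ≤ k ^ 2 * r := by positivity
    by_cases h12 : r = 3
    · subst h12
      have : 4 * 3 ≤ s * 3 := Nat.mul_le_mul_right _ (by omega)
      have : (1 : ℤ) ≤ k := by omega
      nlinarith
    · have h13 : (0 : ℤ) < r * (r - 3) ^ 2 := by
        have : (r : ℤ) - 3 ≠ 0 := by omega
        positivity
      nlinarith

variable {G : Type*} [Group G] [Finite G] {A B D E H J K L M N P Q R S T U V W X Y Z Z0 : Subgroup G}
  {Ω : Set (Subgroup G)} {p q r l s : ℕ} {χ η θ : G → ℂ}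

theorem mem_centQuo_of' (hN : N ≤ P) (hP : P ≤ 𝐍(N)) {g : G} (h : ∀ t ∈ P, ⁅t, g⁆ ∈ N) : g ∈ centQuo N P := by
  refine mem_centQuo_of hP (mem_normalizer_of_cj_le (cj_le_iff'.2 fun n hn => ?_)) h
  simpa [commutatorElement_def, mul_assoc] using mul_mem (inv_mem (h n (hN hn))) hn

theorem le_zpowers_of_not_mem (hR : (Nat.card R).Prime) (hYR : Y ≤ 𝐂(R)) (hc : (Nat.card Y).Coprime (Nat.card R)) {a : G}
    (ha : a ∈ Y ⊔ R) (ha' : a ∉ Y) : R ≤ zpowers a := by
  obtain ⟨y, hy, c, hc', rfl⟩ := (Coprime.mem_sup_iff_of_le_normalizer (le_norm_of_le_cent (BG1.le_cent_symm hYR))).1 ha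
  have h1 : (y * c) ^ Nat.card Y = c ^ Nat.card Y := by
    rw [(show Commute y c from (hYR hy c hc').symm).mul_pow, orderOf_dvd_iff_pow_eq_one.1 (Y.orderOf_dvd_natCard hy), one_mul]
  rw [← Coprime.zpowers_eq_of_card_prime hR (pow_mem hc' (Nat.card Y)) fun e => ha' ?_, ← h1, zpowers_le]
  · exact pow_mem (mem_zpowers _) _
  · have := (hc.coprime_dvd_right (R.orderOf_dvd_natCard hc')).symm.eq_one_of_dvd (orderOf_dvd_of_pow_eq_one e)
    rw [orderOf_eq_one_iff.1 this, mul_one]; exact hy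

/-- the elements congruent to a commutator with `y` -/
def comMod (P D : Subgroup G) (h : ⁅P, P⁆ ≤ D) (hD : D ≤ P) (y : G) (hy : y ∈ 𝐍(P)) : Subgroup G where
  carrier := {x | ∃ t ∈ P, x * ⁅t, y⁆⁻¹ ∈ D}
  one_mem' := ⟨1, P.one_mem, by simp⟩
  mul_mem' := fun {a b} ⟨t, ht, ha⟩ ⟨u, hu, hb⟩ => ⟨t * u, mul_mem ht hu, by
    have h1 : ∀ v ∈ P, ⁅v, y⁆ ∈ P := fun v hv =>
      commutator_le_left_of_norm (zpowers_le.2 hy) (commutator_mem_commutator hv (mem_zpowers y))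
    have := mul_mem (mul_mem (mul_mem ha (Coprime.conj_mem (le_norm_of_der_le h hD) (h1 t ht) hb))
      (h (commutator_mem_commutator (h1 t ht) (h1 u hu)))) (h (commutator_mem_commutator (h1 u hu) ht))
    convert this using 1
    simp only [commutatorElement_def]; group⟩
  inv_mem' := fun {a} ⟨t, ht, ha⟩ => ⟨t⁻¹, inv_mem ht, by
    have h1 : ⁅t, y⁆ ∈ P := commutator_le_left_of_norm (zpowers_le.2 hy) (commutator_mem_commutator ht (mem_zpowers y))
    have := mul_mem (Coprime.conj_mem' (le_norm_of_der_le h hD) h1 (inv_mem ha))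
      (h (commutator_mem_commutator (inv_mem h1) (inv_mem ht)))
    convert this using 1
    simp only [commutatorElement_def]; group⟩

theorem normSq_le (h2 : ⁅P, P⁆ ≤ 𝐂(P)) (hPL : P ≤ L) (hN : L ≤ 𝐍(P)) (hη : CharOn L η) (hP : IrrOn P η) {y : G} (hy : y ∈ L) :
    ‖η y‖ ^ 2 ≤ (⁅P, zpowers y⁆ ⊔ zc P η).relIndex P := by
  set S := comMod P (zc P η) (der_le_zc h2) zc_le y (hN hy)
  have h0 : ∀ v ∈ P, ⁅v, y⁆ ∈ P := fun v hv =>
    commutator_le_left_of_norm (zpowers_le.2 (hN hy)) (commutator_mem_commutator hv (mem_zpowers y))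
  have h1 : zc P η ≤ S := fun x hx => ⟨1, P.one_mem, by simpa using hx⟩
  have h3 : S ≤ P := fun x hx => by
    obtain ⟨t, ht, hx⟩ := hx
    have := mul_mem (zc_le hx) (h0 t ht)
    rwa [inv_mul_cancel_right] at this
  have h4 := le_norm_of_der_le ((der_le_zc h2).trans h1) h3
  have h5 : ⁅P, zpowers y⁆ ⊔ zc P η ≤ S := sup_le (commutator_le_of_le_centQuo h4 (zpowers_le.2 (mem_centQuo_of' h3 h4
    fun t ht => ⟨t, ht, by rw [mul_inv_cancel]; exact one_mem _⟩))) h1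
  have h6 := FG.sum_coset_normSq hPL (nrm_of_le_normalizer hN) hη hP hy
  have h7 : ∑ c ∈ elems (⁅P, zpowers y⁆ ⊔ zc P η), ‖η (c * y)‖ ^ 2 ≤ ∑ c ∈ elems P, ‖η (c * y)‖ ^ 2 :=
    Finset.sum_le_sum_of_subset_of_nonneg (elems_mono (h5.trans h3)) fun _ _ _ => by positivity
  rw [h6, Finset.sum_congr rfl (g := fun _ => ‖η y‖ ^ 2) fun c hc => by
    obtain ⟨t, ht, hc'⟩ := h5 (mem_elems.1 hc)
    obtain ⟨e, he, h⟩ := fa_scalar hη hP.one_ne_zero (hPL (zc_le hc')) (zc_norm h2 hP hc')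
    rw [show c * y = c * ⁅t, y⁆⁻¹ * (t * y * t⁻¹) by rw [commutatorElement_def]; group,
      h _ (mul_mem (mul_mem (hPL ht) hy) (inv_mem (hPL ht))), norm_mul, he, one_mul, hη.classOn t (hPL ht) y hy],
    Finset.sum_const, card_elems, nsmul_eq_mul, ← Clifford.card_mul_relIndex (h5.trans h3), Nat.cast_mul] at h7
  exact le_of_mul_le_mul_left h7 (Nat.cast_pos.2 Nat.card_pos)

theorem mult_anti (hη : CharOn K η) (hH : H ≤ K) : mult K η 1 ≤ mult H η 1 := by
  rw [Coprime.mult_trans hη hH (charOn_one H)]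
  refine le_trans (le_of_eq ?_) (Finset.single_le_sum (fun _ _ => Nat.zero_le _) (cut_one_mem K))
  rw [Coprime.mult_congr_right η (γ := 1) fun x hx => cut_of_mem 1 hx, Coprime.mult_congr_left (χ' := 1) (fun x hx => cut_of_mem 1 (hH hx)),
    mult_of_eq (H := H) (φ := 1) (n := 1) (by rw [(irrOn_one H).dot_self, Nat.cast_one]), mul_one]

theorem mult_eq_of_irr (hχ : CharOn L χ) (hK : K ≤ L) (hH : H ≤ K) (h : dot H χ 1 = dot K χ 1) (hη : η ∈ Irr L)
    (hd : dot L χ η ≠ 0) : dot H η 1 = dot K η 1 := by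
  have hη' := (irrOn_of_mem hη).charOn
  rw [(hχ.mono (hH.trans hK)).dot_eq_mult (charOn_one _), (hχ.mono hK).dot_eq_mult (charOn_one _), Nat.cast_inj,
    Coprime.mult_trans hχ hK (charOn_one _), Coprime.mult_trans hχ (hH.trans hK) (charOn_one _), eq_comm,
    Finset.sum_eq_sum_iff_of_le fun ψ hψ => Nat.mul_le_mul_left _ (mult_anti ((irrOn_of_mem hψ).charOn.mono hK) hH)] at h
  rw [hχ.dot_eq_mult hη', Nat.cast_ne_zero] at hd
  rw [(hη'.mono (hH.trans hK)).dot_eq_mult (charOn_one _), (hη'.mono hK).dot_eq_mult (charOn_one _),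
    Nat.eq_of_mul_eq_mul_left (Nat.pos_of_ne_zero hd) (h η hη)]

theorem avg_eq (hη : CharOn K η) (hN : N ≤ K) (hn : Nrm K N) (h : dot N η 1 = dot K η 1) {x : G} (hx : x ∈ K) :
    ∑ n ∈ elems N, η (n * x) = Nat.card N * dot N η 1 := by
  classical
  have h1 := hη.classOn.avg_coset hN hn K.one_mem
  have h2 := hη.classOn.avg_coset hN hn hx
  have h3 : (Nat.card N : ℂ)⁻¹ * ∑ n ∈ elems N, η (n * 1) = dot N η 1 := by simp [dot]
  have h4 : ∀ β ∈ IrrKer K N, IrrOn K β := fun β hβ => irrOn_of_mem (IrrKer_subset hβ)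
  rw [← Finset.add_sum_erase _ _ (cut_one_mem_IrrKer hN), dot_cut_right] at h1 h2
  rw [h3, h, cut_of_mem _ K.one_mem, Pi.one_apply, mul_one, left_eq_add, Finset.sum_congr rfl
    (g := fun β => ((mult K η β * charDegree β : ℕ) : ℂ)) fun β hβ => by
      rw [hη.dot_eq_mult (h4 β (Finset.mem_of_mem_erase hβ)).charOn, (h4 β (Finset.mem_of_mem_erase hβ)).one_eq, Nat.cast_mul],
    ← Nat.cast_sum, Nat.cast_eq_zero, Finset.sum_eq_zero_iff] at h1
  rw [cut_of_mem _ hx, Pi.one_apply, mul_one, Finset.sum_eq_zero (s := (IrrKer K N).erase _) fun β hβ => by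
    rw [hη.dot_eq_mult (h4 β (Finset.mem_of_mem_erase hβ)).charOn, (mul_eq_zero.1 (h1 β hβ)).resolve_right
      (h4 β (Finset.mem_of_mem_erase hβ)).deg_pos.ne', Nat.cast_zero, zero_mul], add_zero,
    inv_mul_eq_iff_eq_mul₀ (Clifford.card_ne_zero N)] at h2
  rw [h2, h]

theorem surj_comm {g t : G} (hg : g ∈ 𝐍(T)) (h : T ⊓ centralizer {g} = ⊥) (ht : t ∈ T) : ∃ u ∈ T, ⁅u, g⁆ = t := by
  have h0 : ∀ v ∈ T, ⁅v, g⁆ ∈ T := fun v hv =>
    commutator_le_left_of_norm (zpowers_le.2 hg) (commutator_mem_commutator hv (mem_zpowers g))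
  obtain ⟨u, hu⟩ := (Finite.injective_iff_surjective (f := fun u : T => (⟨⁅(u : G), g⁆, h0 u u.2⟩ : T))).1 (fun u v e => by
    have e' : ⁅(u : G), g⁆ = ⁅(v : G), g⁆ := congrArg Subtype.val e
    have : (v : G)⁻¹ * u ∈ T ⊓ centralizer {g} := ⟨T.mul_mem (T.inv_mem v.2) u.2, mem_centralizer_singleton_iff.2 (by
      simp only [commutatorElement_def, mul_left_inj] at e'
      rw [show (v : G)⁻¹ * u * g = (v : G)⁻¹ * (u * g * (u : G)⁻¹) * u by group, e']; group)⟩
    exact Subtype.ext (inv_mul_eq_one.1 (mem_bot.1 (h.le this))).symm) ⟨t, ht⟩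
  exact ⟨u, u.2, congrArg Subtype.val hu⟩

theorem kill (hR : (Nat.card R).Prime) (hs : Group.IsSolvable W) (hsT : Group.IsSolvable T) (hTW : T ≤ 𝐍(W)) (hYW : Y ≤ 𝐍(W))
    (hRW : R ≤ 𝐍(W)) (hYT : Y ≤ 𝐍(T)) (hRT : R ≤ 𝐍(T)) (hYR : Y ≤ 𝐂(R)) (hc : (Nat.card R).Coprime (Nat.card T))
    (hcYR : (Nat.card Y).Coprime (Nat.card R)) (hcT : (Nat.card T).Coprime (Nat.card W))
    (hcY : (Nat.card Y).Coprime (Nat.card W)) (hcR : (Nat.card R).Coprime (Nat.card W)) (h1 : T ⊓ 𝐂(R) ≤ 𝐂(W))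
    (h0 : W ⊓ 𝐂(T) = ⊥) (h : W ⊓ 𝐂(R) ≤ 𝐂(Y)) : Y ≤ 𝐂(W) := by
  have hRY : R ≤ 𝐍(Y) := le_norm_of_le_cent (BG1.le_cent_symm hYR)
  have hA := sup_le hYT hRT
  have hAW := sup_le hYW hRW
  obtain ⟨χ, hχ, hd⟩ := Coprime.exists_brauer_lift (sup_le hTW hAW) (coprime_sup hA hcT (coprime_sup hRY hcY hcR)) hs
  set N := T ⊓ 𝐂(W)
  have hTN : T ≤ 𝐍(N) := le_normalizer_inf le_normalizer (hTW.trans (PGrp.normalizer_le_normalizer_centralizer' W))
  have hAN : Y ⊔ R ≤ 𝐍(N) := le_normalizer_inf hA (hAW.trans (PGrp.normalizer_le_normalizer_centralizer' W))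
  have hNt : Triv N χ := (Coprime.triv_iff_le_centralizer_of_lift hχ hd (inf_le_left.trans le_sup_left)).2 inf_le_right
  have hv : ∀ g ∈ Y ⊔ R, g ∉ Y → χ g = 0 := fun g hg hg' => by
    have h2 := hχ.classOn.avg_coset le_sup_left (nrm_of_le_normalizer (sup_le le_normalizer hA)) (mem_sup_right hg)
    rw [Finset.sum_congr rfl (g := fun _ => χ g) fun t ht => ?_, Finset.sum_const, card_elems, nsmul_eq_mul,
      inv_mul_cancel_left₀ (Clifford.card_ne_zero T), Finset.sum_eq_zero fun β hβ => ?_] at h2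
    · exact h2
    · obtain ⟨hβ, hβ'⟩ := mem_IrrKer.1 hβ
      by_contra e
      refine CharOn.dot_ne_zero_trans le_sup_left hχ (irrOn_of_mem hβ) (charOn_one T) (left_ne_zero_of_mul e) ?_ ?_
      · rw [hβ'.dot_one]; exact (irrOn_of_mem hβ).one_ne_zero
      · rw [hd _ le_sup_left, h0, card_bot]; simp
    · have ht := mem_elems.1 ht
      obtain ⟨_, hu, e⟩ := surj_comm (T := quo N T) (mem_norm_mim (f := qmk N) (hAN hg) (hA hg)) (by
        rw [← PGrp.centralizer_zpowers, ← mim_zpowers, eq_bot_iff]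
        refine (inf_le_inf_left _ (centralizer_le (mim_mono _ (le_zpowers_of_not_mem hR hYR hcYR hg hg')))).trans ?_
        rw [← quo_inf_cent (le_sup_right.trans hAN) hTN hRT (Coprime.coprime_card_of_le hc le_rfl inf_le_left)
          (Or.inr (solvable_of_le inf_le_left hsT)), le_bot_iff, quo_eq_bot_iff (inf_le_left.trans hTN)]
        exact le_inf inf_le_left h1) (mem_mim_of_mem (hTN ht) ht)
      obtain ⟨u, huN, hu', rfl⟩ := mem_mim.1 hu
      rw [← map_commutatorElement, ← mul_inv_eq_one, ← map_inv, ← map_mul] at e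
      have h3 : ⁅u, g⁆ * t⁻¹ ∈ N := (qmk_eq_one_iff _).1 e
      have h4 : t * g ∈ T ⊔ (Y ⊔ R) := mul_mem (mem_sup_left ht) (mem_sup_right hg)
      rw [← hNt.mul_left hχ (inf_le_left.trans le_sup_left) h3 h4, ← hχ.classOn u (mem_sup_left hu') g (mem_sup_right hg)]
      congr 1
      rw [commutatorElement_def]; group
  have hb := Coprime.inf_eq_bot_of_coprime_card hcYR.symm
  have h2 := dot_of_supp (le_sup_left : Y ≤ Y ⊔ R) hv 1
  have h3 := dot_of_supp (bot_le : ⊥ ≤ R) (fun g hg hg' => hv g (mem_sup_right hg) fun e => hg' (hb.le ⟨e, hg⟩)) 1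
  rw [Coprime.relIndex_sup_of_le_normalizer' hRY, ← one_mul (Y.relIndex R), ← card_bot (G := G), ← hb,
    Core.card_inf_mul_relIndex, hd _ le_sup_right, centralizer_sup, ← inf_assoc, inf_right_comm, inf_eq_left.2 h,
    ← hd _ (le_sup_right.trans le_sup_right), ← relIndex_bot_left, ← h3, dot_bot, Pi.one_apply, map_one, mul_one] at h2
  exact (Coprime.triv_iff_le_centralizer_of_lift hχ hd (le_sup_left.trans le_sup_right)).1
    ((hχ.mono (le_sup_left.trans le_sup_right)).triv_of_dot_one h2)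

theorem Sy.d1 (h : Sy p P Z0 E χ) (hR : (Nat.card R).Prime) {y : G} (hχ : CharOn (P ⊔ (zpowers y ⊔ R)) χ)
    (hYR : zpowers y ≤ 𝐂(R)) (hcYR : (Nat.card (zpowers y)).Coprime (Nat.card R)) (hcR : (Nat.card R).Coprime (Nat.card P))
    (hA : zpowers y ⊔ R ≤ 𝐍(P)) (hAD : zpowers y ⊔ R ≤ 𝐍(rad Z0 P)) (hE : ⁅rad Z0 P ⊓ P, zpowers y ⊔ R⁆ ≤ E)
    (h0 : dot R χ 1 = dot (zpowers y ⊔ R) χ 1) (hf : P ⊓ 𝐂(R) ≤ rad Z0 P) (hy : y ∉ centQuo (rad Z0 P) P) (hs : s.Prime)
    (hsr : s ≠ Nat.card R) (hsp : s ≠ p) (h3 : (s * Nat.card R - 1) ^ 2 ≤ (rad Z0 P).relIndex P) :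
    (rad Z0 P).relIndex P ≤ (2 * Nat.card R - 1) ^ 2 := by
  classical
  haveI := Fact.mk hR
  haveI := Fact.mk h.hp
  have hc : IsCyclic ↥(zpowers y ⊔ R) :=
    isCyclic_sup_of_coprime inferInstance (isCyclic_of_prime_card rfl) (fun a ha b hb => (hYR ha b hb).symm) hcYR
  haveI := PGrp.isMulCommutative_of_isCyclic hc
  have hLP := sup_le le_normalizer hA
  have hN := nrm_of_le_normalizer hLP
  obtain ⟨η, hη, hd⟩ := hχ.exists_constituent h.h1
  have hη1 := irrOn_of_mem hη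
  obtain ⟨θ, hθ, hd'⟩ := (hη1.charOn.mono le_sup_left).exists_constituent hη1.one_ne_zero
  have hθ := irrOn_of_mem hθ
  have hd2 := CharOn.dot_ne_zero_trans le_sup_left hχ hη1 hθ.charOn hd hd'
  obtain ⟨η0, hη0, e0⟩ := exists_ext_of_isCyclic (sup_comm _ P) hN hθ (Coprime.invOn_sup (nrm_self P)
    (nrm_of_le_normalizer hA) hθ.classOn (h.invOn le_rfl le_rfl hθ hd2 hA hAD hE))
  have e : ∀ x ∈ P, η x = θ x := fun x hx => by
    rw [← e0 x hx]
    exact ext_of_abelian le_sup_left hN (Coprime.commutator_sup_le_of_comm hA) (irrOn_of_mem hη0).charOn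
      (hθ.congr fun x hx => (e0 x hx).symm) hη1 (by rwa [dot_congr_right _ e0]) x hx
  have hηP : IrrOn P η := hθ.congr fun x hx => (e x hx).symm
  have hz : zc P η = rad Z0 P := (zc_congr e).trans (h.zc_eq le_rfl hθ hd2)
  have hdeg := zc_deg_sq h.h2 hηP
  rw [hz] at hdeg
  have hn := fun g (hg : g ∈ zpowers y ⊔ R) => hz ▸ normSq_le h.h2 le_sup_left hLP hη1.charOn hηP (mem_sup_right hg)
  have hRP := le_sup_right.trans hA
  have hn1 : ∀ g ∈ zpowers y ⊔ R, g ∉ zpowers y → ‖η g‖ ≤ 1 := fun g hg hg' => by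
    have := hn g hg
    rwa [relIndex_eq_one.2 ((Coprime.commutator_sup_centralizer hRP hcR (Or.inr h.sol)).ge.trans (sup_le_sup
      (commutator_mono le_rfl (le_zpowers_of_not_mem hR hYR hcYR hg hg')) hf)), Nat.cast_one,
      sq_le_one_iff₀ (norm_nonneg _)] at this
  have hb := Coprime.inf_eq_bot_of_coprime_card hcYR.symm
  have hR' := hη1.charOn.mono (le_sup_right.trans le_sup_right)
  have hav : ∀ x ∈ zpowers y, ‖η x - (Nat.card R * mult R η 1 : ℕ)‖ ≤ (Nat.card R : ℝ) - 1 := fun x hx => by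
    have h1 := avg_eq (hη1.charOn.mono le_sup_right) le_sup_right (nrm_of_le_normalizer (le_norm_of_le_cent
      ((le_centralizer _).trans (centralizer_le (le_sup_right : R ≤ zpowers y ⊔ R))))) (mult_eq_of_irr hχ le_sup_right le_sup_right h0 hη hd)
      (mem_sup_left hx)
    rw [hR'.dot_eq_mult (charOn_one R), ← Finset.add_sum_erase _ _ (mem_elems.2 R.one_mem), one_mul] at h1
    rw [Nat.cast_mul, ← h1, sub_add_cancel_left, norm_neg]
    refine (norm_sum_le _ _).trans ((Finset.sum_le_card_nsmul _ _ 1 fun a ha => ?_).trans (le_of_eq ?_))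
    · have ha := Finset.mem_erase.1 ha
      have ha' := mem_elems.1 ha.2
      exact hn1 _ (mul_mem (mem_sup_right ha') (mem_sup_left hx)) fun e => ha.1 (mem_bot.1 (hb.le
        ⟨(mul_mem_cancel_right hx).1 e, ha'⟩))
    · rw [Finset.card_erase_of_mem (mem_elems.2 R.one_mem), card_elems, nsmul_eq_mul, mul_one, Nat.cast_pred hR.pos]
  set X := ⁅P, zpowers y⁆ ⊔ rad Z0 P
  have hX : X ≤ P := sup_le (commutator_le_left_of_norm (le_sup_left.trans hA)) rad_le
  have hRD := le_sup_right.trans hAD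
  have hRX : R ≤ 𝐍(X) := le_normalizer_sup (le_normalizer_commutator hRP (le_norm_of_le_cent (BG1.le_cent_symm hYR))) hRD
  have hf' : ∀ a ∈ R, a ≠ 1 → P ⊓ centralizer {a} ≤ rad Z0 P := fun a ha ha1 => by
    rwa [Coprime.centralizer_singleton_eq_of_card_prime hR ha ha1]
  have h4 := fb_card_dvd hRP hX (le_norm_of_der_le (h.der_le.trans le_sup_right) hX) hRX hcR fun a ha ha1 =>
    (hf' a ha ha1).trans le_sup_right
  have h5 := fb_card_dvd hRX le_sup_right (hX.trans h.norm_rad) hRD (Coprime.coprime_card_of_le hcR le_rfl hX)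
    fun a ha ha1 => (inf_le_inf_right _ hX).trans (hf' a ha ha1)
  obtain ⟨k, hk⟩ := h.hP.exists_card_eq
  obtain ⟨i, -, hi⟩ := (Nat.dvd_prime_pow h.hp).1 (hk ▸ relIndex_dvd_card X P)
  obtain ⟨j, -, hj⟩ := (Nat.dvd_prime_pow h.hp).1 (hk ▸ (relIndex_dvd_card (rad Z0 P) X).trans (card_dvd_of_le hX))
  have h6 := relIndex_mul_relIndex _ X P le_sup_right hX
  have h7 : (rad Z0 P).relIndex X ≠ 1 := fun e => hy (zpowers_le.1 (le_centQuo h.norm_rad (le_sup_left.trans hAD)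
    (le_sup_left.trans (relIndex_eq_one.1 e))))
  have h8 := hav 1 (one_mem _)
  have h9 := hav y (mem_zpowers y)
  have h10 := hn y (mem_sup_left (mem_zpowers y))
  rw [hη1.one_eq, ← Complex.ofReal_natCast, ← Complex.ofReal_natCast, ← Complex.ofReal_sub, Complex.norm_real,
    Real.norm_eq_abs, abs_le] at h8
  rw [norm_sub_rev] at h9
  have h11 := (norm_sub_norm_le _ _).trans h9
  rw [Complex.norm_natCast] at h11
  rw [hi] at h4 h6 h10
  rw [hj] at h5 h6 h7
  rw [← hdeg] at h3 ⊢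
  have hr := hR.pos
  have h12 := num (n := mult R η 1) h.hp hR hs hsr hsp (by rw [hdeg, ← h6, mul_comm]) h4 h5
    (lt_of_le_of_ne (Nat.one_le_pow _ _ h.hp.pos) (Ne.symm h7)) (by
      have : ((charDegree η + 1 : ℕ) : ℝ) ≤ ((Nat.card R * mult R η 1 + Nat.card R : ℕ) : ℝ) := by
        have := h8.2; push_cast at this ⊢; linarith
      exact_mod_cast this) (by
      rcases le_total (Nat.card R * mult R η 1 + 1) (Nat.card R) with h13 | h13
      · rw [Nat.sub_eq_zero_of_le h13]; simp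
      · have : ((Nat.card R * mult R η 1 + 1 - Nat.card R : ℕ) : ℝ) ≤ ‖η y‖ := by
          rw [Nat.cast_sub h13]; push_cast at h11 ⊢; linarith
        have := (pow_le_pow_left₀ (Nat.cast_nonneg _) this 2).trans h10
        exact_mod_cast this) (by
      have := (Nat.pow_le_pow_iff_left two_ne_zero).1 h3
      omega)
  exact Nat.pow_le_pow_left (by omega) 2

end Cfsg.Lib.Tur
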