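import Cfsg.Agent.Lib.Tur.E

/-! The fixed-point-free case. -/

set_option autoImplicit false
set_option linter.unusedSectionVars false

namespace Cfsg.Lib.Tur
open Subgroup Cfsg.Lib.Core Cfsg.Lib.Amalg Cfsg.Lib.BG1 Cfsg.Lib.Clifford Cfsg.Lib.Char Cfsg.Lib.Hall Cfsg.Lib.SigC
open scoped commutatorElement IsMulCommutative

variable {G : Type*} [Group G] [Finite G] {A B D E H J K L M N P Q R S T U V W X Y Z Z0 : Subgroup G}
  {Ω : Set (Subgroup G)} {p q r l s : ℕ} {χ η θ : G → ℂ}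

theorem nres_le_of_quo (hn : J ≤ 𝐍(N)) (h : Group.IsNilpotent (quo N J)) : nres J ≤ N := by
  rw [← quo_eq_bot_iff ((nres_le J).trans hn)]
  exact (mim_nresN (qmk N) 1 hn).trans (nres_eq_bot_iff.2 h)

theorem pgroup_quo (hq : q.Prime)
    (h : ∀ l : ℕ, l.Prime → l ≠ q → ∀ y ∈ J, IsPGroup l (zpowers y) → y ∈ N) : IsPGroup q (quo N J) := by
  refine (isPGroup_iff_isPiNumber hq).2 fun l hl hd => by_contra fun e => ?_
  haveI := Fact.mk hl
  obtain ⟨⟨_, hx⟩, ho⟩ := exists_prime_orderOf_dvd_card' l hd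
  obtain ⟨y, hyN, hy, rfl⟩ := mem_mim.1 hx
  obtain ⟨a, m, h1, h2⟩ := Nat.exists_eq_pow_mul_and_not_dvd (orderOf_pos y).ne' l hl.ne_one
  have h3 : (y ^ m) ^ l ^ a = 1 := by rw [← pow_mul, mul_comm, ← h2, pow_orderOf_eq_one]
  obtain ⟨b, -, hb⟩ := (Nat.dvd_prime_pow hl).1 (orderOf_dvd_of_pow_eq_one h3)
  have h4 := (qmk_eq_one_iff (pow_mem hyN m)).2 (h l hl e _ (pow_mem hy m) (IsPGroup.of_card ((Nat.card_zpowers _).trans hb)))
  rw [← Subgroup.orderOf_coe] at ho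
  exact h1 (ho ▸ orderOf_dvd_of_pow_eq_one ((map_pow (qmk N) ⟨y, hyN⟩ m).symm.trans h4))

theorem nres_le_of_prime (hq : q.Prime) (hn : J ≤ 𝐍(N))
    (h : ∀ l : ℕ, l.Prime → l ≠ q → ∀ y ∈ J, IsPGroup l (zpowers y) → y ∈ N) : nres J ≤ N :=
  nres_le_of_quo hn (nilpotent_of_pgroup hq (pgroup_quo hq h))

theorem nres_le_of_cop (hq : q.Prime) (hn : J ≤ 𝐍(N)) (h : ∀ y ∈ J, (orderOf y).Coprime q → y ∈ N) : nres J ≤ N :=
  nres_le_of_prime hq hn fun l hl e y hy hp => h y hy (by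
    haveI := Fact.mk hl
    obtain ⟨k, hk⟩ := hp.exists_card_eq
    rw [← Nat.card_zpowers, hk]
    exact Nat.Coprime.pow_left _ ((Nat.coprime_primes hl hq).2 e))

theorem le_nres (hX : X ≤ J) (h : X ≤ ⁅X, J⁆) : X ≤ nres J := le_iInf fun k => by
  induction k with
  | zero => exact hX
  | succ k ih => exact h.trans (commutator_mono ih le_rfl)

theorem nres_le_comm (J : Subgroup G) : nres J ≤ ⁅nres J, J⁆ := by
  obtain ⟨k, hk⟩ := exists_nres_eq J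
  conv_rhs => rw [← hk k le_rfl]
  exact (hk (k + 1) (by omega)).ge

theorem cent_le_mod2 (hY : Y ≤ 𝐍(P)) (hc : (Nat.card Y).Coprime (Nat.card P)) (h1 : ⁅P, P⁆ ≤ D) (hD : D ≤ P) (hYD : Y ≤ 𝐍(D))
    (hP : P ≤ D ⊔ ⁅P, Y⁆) (hX : X ≤ P) (h : ⁅X, Y⁆ ≤ D) : X ≤ D := by
  have hPD := le_norm_of_der_le h1 hD
  rw [← quo_eq_bot_iff (hX.trans hPD), eq_bot_iff, ← coprime_abelian_cent_TI (mim_norm (qmk D) hY) (coprime_card_mim _ hc)
    ((isMulCommutative_quo_iff hPD).2 h1), ← mim_commutator hPD hYD]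
  exact le_inf ((quo_le_quo_iff (hX.trans hPD) ((commutator_le_left_of_norm hY).trans hPD)).2 (hX.trans hP))
    ((quo_cent_iff (hX.trans hPD) hYD).2 h)

theorem comm_inv_mem {Γ : Type*} [Group Γ] {W : Subgroup Γ} {g j : Γ} (hj : ∀ x ∈ W, j * x * j⁻¹ = x⁻¹) (hg : g ∈ 𝐍(W)) :
    ⁅g, j⁆ ∈ 𝐂(W) := fun x hx => by
  have h1 := hj _ (Coprime.conj_mem' le_rfl hg (inv_mem hx))
  have h2 := hj x hx
  have h3 : j⁻¹ * x * j = x⁻¹ := by
    have := hj _ (inv_mem hx)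
    rw [inv_inv] at this
    conv_lhs => rw [← this]
    group
  rw [commutatorElement_def, show g * j * g⁻¹ * j⁻¹ * x = g * (j * (g⁻¹ * (j⁻¹ * x * j) * g) * j⁻¹) * j * g⁻¹ * j⁻¹ by group,
    h3, h1]
  group

theorem comm_mem_of_index_two (hc : (Nat.card Y).Coprime (Nat.card P)) (h1 : ⁅P, P⁆ ≤ D) (hD : D ≤ P) {j g : G}
    (hj : zpowers j = Y) (hY : Y ≤ 𝐍(P)) (hYD : Y ≤ 𝐍(D)) (hP : P ≤ D ⊔ ⁅P, Y⁆) (h2 : j * j ∈ centQuo D P) (hg : g ∈ 𝐍(P))
    (hgD : g ∈ 𝐍(D)) : ⁅g, j⁆ ∈ centQuo D P := by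
  subst hj
  have hPD := le_norm_of_der_le h1 hD
  have hjD := zpowers_le.1 hYD
  have hjP := zpowers_le.1 hY
  rw [centQuo, mem_mpre_iff (Subgroup.commutator_le_self _ (commutator_mem_commutator hgD hjD))]
  refine (map_commutatorElement (qmk D) ⟨g, hgD⟩ ⟨j, hjD⟩).symm ▸ comm_inv_mem (fun x hx' => ?_) (mem_norm_mim hgD hg)
  obtain ⟨x, hxD, hx, rfl⟩ := mem_mim.1 hx'
  rw [eq_inv_iff_mul_eq_one, ← map_inv, ← map_mul, ← map_mul, ← map_mul]
  refine (qmk_eq_one_iff _).2 (zpowers_le.1 (cent_le_mod2 (X := zpowers (j * x * j⁻¹ * x)) hY hc h1 hD hYD hP (zpowers_le.2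
    (mul_mem (Coprime.conj_mem le_rfl hjP hx) hx)) ?_))
  rw [commutator_comm]
  refine comm_zpowers_le hjD (hPD (mul_mem (Coprime.conj_mem le_rfl hjP hx) hx)) ?_
  have h3 := commutator_centQuo_le hPD (commutator_mem_commutator hx h2)
  have h4 := h1 (commutator_mem_commutator hx (Coprime.conj_mem le_rfl hjP hx))
  have := mul_mem (inv_mem h3) h4
  convert this using 1
  simp only [commutatorElement_def, mul_inv_rev, inv_inv, mul_assoc, inv_mul_cancel_left]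

theorem Lev.lemD (h : Lev p s L P H V R) (hq : q.Prime) (hV : IsPGroup q V) (hΩ : Om L V Ω) (hHR : H ≤ 𝐂(R))
    (hf : P ⊓ 𝐂(R) ≤ ⁅P, P⁆) (hP0 : P ≠ ⊥) (hJ : J ≤ L) (hJR : J ≤ 𝐂(R)) (hcJ : (Nat.card J).Coprime (Nat.card R))
    (hJn : P ⊓ 𝐂(R) ≤ 𝐍(J)) (hPJ : ⁅P, nres J⁆ = P)
    (hK : ∀ y ∈ J, (orderOf y).Coprime q → ⁅V ⊓ 𝐂(R), zpowers y⁆ ≤ V0 V R Ω) : False := by
  haveI := h.comm
  haveI := Fact.mk hq
  haveI := Fact.mk h.hp
  haveI := Fact.mk h.hs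
  have hsP := solvable_of_pgroup h.hp h.hP
  have hJP := hJ.trans h.hLP
  have hJV := hJ.trans h.hLV
  have hJR' := le_norm_of_le_cent hJR
  have hΩP := hΩ.mono h.hPL
  have hVP := h.irr P le_rfl hP0 h.hLP h.hRP
  have hPR : ⁅P, R⁆ = P := eq_of_sup_der h.hp h.hP (commutator_le_left_of_norm h.hRP)
    ((Coprime.commutator_sup_centralizer h.hRP h.cRP (Or.inr hsP)).ge.trans (sup_le_sup_left hf _))
  have hJ0 := le_norm_V0 hΩ hJ hJV hJR'
  have hV0 : V ⊓ 𝐂(R) ≤ 𝐍(V0 V R Ω) :=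
    le_norm_of_le_cent (inf_le_left.trans ((le_centralizer V).trans (centralizer_le inf_le_left)))
  have hJC : J ≤ 𝐍(V ⊓ 𝐂(R)) := le_normalizer_inf hJV (hJR.trans le_normalizer)
  have hK' : ∀ y ∈ J, (orderOf y).Coprime q → y ∈ centQuo (V0 V R Ω) (V ⊓ 𝐂(R)) := fun y hy hc =>
    zpowers_le.1 (le_centQuo hV0 (zpowers_le.2 (hJ0 hy)) (hK y hy hc))
  have h1 := step1 h.hR h.hp h.hP hΩP h.hPV h.hRV h.hRP h.cRP hPR (eq_comm_of_cent le_rfl h.hPV h.cPV hVP)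
    ((nres_le J).trans hJP) ((nres_le J).trans hJR) (Coprime.coprime_card_of_le hcJ (nres_le J) le_rfl) hPJ
    (commutator_le_of_le_centQuo hV0 (nres_le_of_cop hq (le_norm_centQuo hJ0 hJC) hK'))
  have h2 : ∀ y ∈ J, (orderOf y).Coprime q → V ⊓ 𝐂(R) ≤ 𝐂(zpowers y) := fun y hy hc =>
    commutator_eq_bot_iff_le_centralizer.1 (le_bot_iff.1 ((le_inf (commutator_le_left_of_norm
      ((zpowers_le.2 hy).trans hJC)) (hK y hy hc)).trans h1.le))
  have hcy : ∀ y : G, (orderOf y).Coprime q → (Nat.card (zpowers y)).Coprime (Nat.card V) := fun y hc =>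
    Coprime.coprime_card_of_isPGroup hV (by rwa [Nat.card_zpowers])
  have h3 : ∀ T ≤ P, ∀ U ≤ V, P ≤ 𝐍(T) → J ≤ 𝐍(T) → R ≤ 𝐍(T) → P ≤ 𝐍(U) → J ≤ 𝐍(U) → R ≤ 𝐍(U) → T ⊓ 𝐂(R) ≤ 𝐂(U) →
      T ≤ 𝐂(U) := fun T hT U hU hPT hJT hRT hPU hJU hRU hTR => by
    have hW : ⁅U, T⁆ ≤ U := commutator_le_left_of_norm (hT.trans hPU)
    have hWV := hW.trans hU
    have hPW := le_normalizer_commutator hPU hPT
    have hJW := le_normalizer_commutator hJU hJT
    haveI : IsMulCommutative U := ⟨⟨fun a b => Subtype.ext (Coprime.mul_comm_of_mem (hU a.2) (hU b.2))⟩⟩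
    have h4 : nres J ≤ 𝐂(⁅U, T⁆) := nres_le_of_cop hq (hJW.trans (PGrp.normalizer_le_normalizer_centralizer' _))
      fun y hy hc => zpowers_le.1 (kill h.hR (solvable_of_le hWV h.solV) (solvable_of_le hT hsP) (hT.trans hPW)
        ((zpowers_le.2 hy).trans hJW) (le_normalizer_commutator hRU hRT) ((zpowers_le.2 hy).trans hJT) hRT
        ((zpowers_le.2 hy).trans hJR) (Coprime.coprime_card_of_le h.cRP le_rfl hT)
        (Coprime.coprime_card_of_le hcJ (zpowers_le.2 hy) le_rfl) (Coprime.coprime_card_of_le h.cPV hT hWV)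
        (Coprime.coprime_card_of_le (hcy y hc) le_rfl hWV) (Coprime.coprime_card_of_le h.cRV le_rfl hWV)
        (hTR.trans (centralizer_le hW)) (coprime_abelian_cent_TI (hT.trans hPU) (Coprime.coprime_card_of_le h.cPV hT hU)
          inferInstance) ((inf_le_inf_right _ hWV).trans (h2 y hy hc)))
    have h5 : P ≤ 𝐂(⁅U, T⁆) := hPJ.ge.trans ((commutator_mono le_rfl h4).trans
      (commutator_le_right_of_norm (hPW.trans (PGrp.normalizer_le_normalizer_centralizer' _))))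
    exact BG1.le_cent_symm (commutator_eq_bot_iff_le_centralizer.1 (le_bot_iff.1
      ((le_inf hWV (BG1.le_cent_symm h5)).trans hVP.le)))
  have hn : ∀ X, X ≤ 𝐍(P) → X ≤ 𝐍(P ⊓ 𝐂(P)) := fun X hX =>
    le_normalizer_inf hX (hX.trans (PGrp.normalizer_le_normalizer_centralizer' _))
  have h4 : P ⊓ 𝐂(P) ≤ 𝐂(R) := by
    have h5 := commutator_le_left_of_norm (hn R h.hRP)
    refine commutator_eq_bot_iff_le_centralizer.1 (le_bot_iff.1 ((le_inf (h5.trans inf_le_left) (h3 _ (h5.trans inf_le_left)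
      V le_rfl (le_norm_of_le_cent (BG1.le_cent_symm (h5.trans inf_le_right))) (le_normalizer_commutator (hn J hJP) hJR')
      (le_norm_commutator_right _ _) h.hPV hJV h.hRV ?_)).trans h.faith.le))
    rw [coprime_abelian_cent_TI (hn R h.hRP) (Coprime.coprime_card_of_le h.cRP le_rfl inf_le_left)
      ⟨⟨fun a b => Subtype.ext (b.2.2 a a.2.1)⟩⟩]
    exact bot_le
  have hPZ := Subgroup.commutator_le_self P
  have hZR : ⁅P, P⁆ ≤ 𝐂(R) := (le_inf hPZ h.h2).trans h4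
  have hne : ∀ Z0, Good p V ⁅P, P⁆ Z0 → ¬ P ≤ rad Z0 P := fun Z0 hg e => h.hp.one_lt.ne'
    (hg.2.1.symm.trans (relIndex_eq_one.2 ((le_rad_iff (h.normZ hg) le_rfl).1 e)))
  have hJZ : J ≤ 𝐂(⁅P, P⁆) := by
    refine BG1.le_cent_symm (commutator_eq_bot_iff_le_centralizer.1 (eq_bot_iff.2 fun z hz => mem_bot.2 (by_contra fun e => ?_)))
    have h5 : ⁅⁅P, P⁆, J⁆ ≤ ⁅P, P⁆ := commutator_le_left_of_norm (le_norm_der hJP)
    have h6 : ⁅⁅P, P⁆, J⁆ ≤ J := commutator_le_right_of_norm ((le_inf hPZ hZR).trans hJn)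
    obtain ⟨Z0, hg, hz'⟩ := h.sep (h5 hz) e
    refine hz' (h.z_mem hΩP hg (comm_bot_le hZR) (hPR.symm ▸ hne Z0 hg) h5 (h5.trans hZR)
      (commutator_le_of_le_centQuo hV0 fun x hx => hK' x (h6 hx) ?_) hz)
    have h7 := h.cPV.coprime_dvd_left (P.orderOf_dvd_natCard (hPZ (h5 hx)))
    obtain ⟨k, hk⟩ := hV.exists_card_eq
    rcases k with _ | k
    · exact absurd (card_eq_one.1 (hk.trans (pow_zero q))) fun e => hg.2.2 (by rw [e, bot_inf_eq])
    · exact (hk ▸ h7).coprime_dvd_right (dvd_pow_self q k.succ_ne_zero)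
  obtain ⟨Z0, hg, -⟩ := h.exists_good (fun e => hP0 (hPR.symm.trans (commutator_eq_bot_iff_le_centralizer.2 e))) h4
  have hne' := hne Z0 hg
  have hZ0R : Z0 ≤ 𝐂(R) := hg.1.trans hZR
  have hn0 : ∀ X, X ≤ 𝐂(⁅P, P⁆) → X ≤ 𝐍(Z0) := fun X hX => le_norm_of_le_cent (hX.trans (centralizer_le hg.1))
  have hnU : ∀ X, X ≤ 𝐍(V) → X ≤ 𝐂(⁅P, P⁆) → X ≤ 𝐍(V ⊓ 𝐂(Z0)) := fun X hX hX' =>
    le_normalizer_inf hX ((hn0 X hX').trans (PGrp.normalizer_le_normalizer_centralizer' _))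
  have hRZ := BG1.le_cent_symm hZR
  set D := rad Z0 P with hD
  have hJD : J ≤ 𝐍(D) := le_norm_rad hJP (hn0 J hJZ)
  have hRD : R ≤ 𝐍(D) := le_norm_rad h.hRP (hn0 R hRZ)
  have hPD : P ≤ 𝐍(D) := le_norm_rad le_normalizer (h.normZ hg)
  have hcD : ⁅P, D⁆ ≤ Z0 := (le_rad_iff (h.normZ hg) rad_le).1 le_rfl
  have hZ0D : Z0 ≤ D := (le_rad_iff (h.normZ hg) (hg.1.trans hPZ)).2 (comm_bot_le' (hg.1.trans h.h2))
  have hE : ⁅D, R⁆ ≤ P ⊓ 𝐂(V ⊓ 𝐂(Z0)) := by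
    have h5 : Z0 ⊔ ⁅D, R⁆ ≤ D := sup_le hZ0D (commutator_le_left_of_norm hRD)
    refine le_sup_right.trans (le_inf (h5.trans rad_le) (h3 _ (h5.trans rad_le) _ inf_le_left (le_norm_of_commutator_le
      (((commutator_mono h5 le_rfl).trans ((commutator_comm _ _).le.trans hcD)).trans le_sup_left))
      (le_normalizer_sup (hn0 J hJZ) (le_normalizer_commutator hJD hJR'))
      (le_normalizer_sup (hn0 R hRZ) (le_norm_commutator_right _ _)) (h.normU hg) (hnU J hJV hJZ) (hnU R h.hRV hRZ) ?_))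
    rw [sup_inf_of_le_normalizer' hZ0R (((commutator_le_left_of_norm hRD).trans rad_le).trans (h.normZ hg))]
    exact (sup_le le_rfl (cent_le_mod hRD (Coprime.coprime_card_of_le h.cRP le_rfl rad_le)
      ((commutator_mono rad_le le_rfl).trans hcD) (hn0 R hRZ) inf_le_left (comm_bot_le inf_le_right))).trans
      (BG1.le_cent_symm inf_le_right)
  have hJK : J ≤ 𝐍(centQuo D P) := le_norm_centQuo hJD hJP
  have hfin : ¬ nres J ≤ centQuo D P := fun e => hne' (hPJ.ge.trans (commutator_le_of_le_centQuo hPD e))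
  obtain ⟨y, hy, hyc, hyK⟩ : ∃ y ∈ J, (orderOf y).Coprime q ∧ y ∉ centQuo D P := by
    by_contra e
    push Not at e
    exact hfin (nres_le_of_cop hq hJK e)
  have hY := zpowers_le.2 hy
  have hcYR := Coprime.coprime_card_of_le hcJ hY le_rfl
  obtain ⟨χ, hχ, hd⟩ := Coprime.exists_brauer_lift (M := V ⊓ 𝐂(Z0)) (L := P ⊔ (zpowers y ⊔ R)) (sup_le (h.normU hg)
    (sup_le (hY.trans (hnU J hJV hJZ)) (hnU R h.hRV hRZ))) (Coprime.coprime_card_of_le (coprime_sup (sup_le (hY.trans hJP) h.hRP)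
      h.cPV (coprime_sup (le_norm_of_le_cent (BG1.le_cent_symm (hY.trans hJR))) (hcy y hyc) h.cRV)) le_rfl inf_le_left)
    (solvable_of_le inf_le_left h.solV)
  have hs := h.sy hg le_rfl hg.2.2 le_sup_left hχ hd
  have hsub : ∀ l : ℕ, l.Prime → ∀ j, IsPGroup l (zpowers j) → (Nat.card (zpowers j)).Coprime (Nat.card P) →
      (Nat.card (zpowers j)).Coprime (Nat.card R) → j ∈ 𝐂(R) → j ∈ 𝐍(P) → j ∈ 𝐂(⁅P, P⁆) → j ∉ centQuo D P →
      ∃ B ≤ zpowers j, l ≤ (centQuo D P).relIndex (zpowers j) ∧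
        ((centQuo D P).relIndex (zpowers j) * Nat.card R - 1) ^ 2 ≤ D.relIndex ⁅P, B⁆ ∧ D.relIndex ⁅P, B⁆ ≤ D.relIndex P :=
    fun l hl j h5 h6 h7 h8 h9 h10 h11 => by
      have h8 := zpowers_le.2 h8
      have h9 := zpowers_le.2 h9
      have h10 := zpowers_le.2 h10
      obtain ⟨B, hB, h12⟩ := hs.subp le_rfl le_rfl h.hR hl inferInstance h5 h6 h.cRP h7 h8 h9 h.hRP (comm_bot_le' h10)
        (le_norm_rad h9 (hn0 _ h10)) hRD (hs.comm_le_E le_rfl h.cRP h8 h9 h.hRP h.hRP (comm_bot_le' h10) (comm_bot_le hZR) hf hE)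
        (hf.trans hs.der_le) (mt zpowers_le.1 h11)
      refine ⟨B, hB, ?_, h12, relIndex_le_of_le_right (commutator_le_left_of_norm (hB.trans h9)) relIndex_ne_zero'⟩
      haveI := Fact.mk hl
      obtain ⟨k, hk⟩ := h5.exists_card_eq
      obtain ⟨i, -, hi⟩ := (Nat.dvd_prime_pow hl).1 (hk ▸ relIndex_dvd_card (centQuo D P) (zpowers j))
      rw [hi]
      exact Nat.le_self_pow (by rintro rfl; exact h11 (zpowers_le.1 (relIndex_eq_one.1 hi))) l
  obtain ⟨t, ht, htK⟩ : ∃ t ∈ H, t ∉ centQuo D P := by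
    by_contra e
    push Not at e
    exact hne' (h.hPH.ge.trans (commutator_le_of_le_centQuo hPD e))
  have hT := zpowers_le.2 ht
  obtain ⟨B, -, h5, h6, h7⟩ := hsub s h.hs t (h.hH.to_le hT) (Coprime.coprime_card_of_le h.cHP hT le_rfl)
    (Coprime.coprime_card_of_le h.cRH.symm hT le_rfl) (hHR ht) (h.hHP ht) (h.hHZ ht) htK
  have hsd : s ∣ Nat.card H := by
    obtain ⟨k, hk⟩ := h.hH.exists_card_eq
    rw [hk]
    refine dvd_pow_self s ?_
    rintro rfl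
    exact htK ((card_eq_one.1 hk).le.trans bot_le ht)
  have h8 := hs.d1 h.hR hχ (hY.trans hJR) hcYR h.cRP (sup_le (hY.trans hJP) h.hRP) (sup_le (hY.trans hJD) hRD)
    (hs.comm_le_E le_rfl h.cRP (hY.trans hJR) (hY.trans hJP) h.hRP h.hRP (comm_bot_le' (hY.trans hJZ)) (comm_bot_le hZR) hf hE)
    (by rw [hd _ le_sup_right, hd _ (le_sup_right.trans le_sup_right), centralizer_sup, ← inf_assoc, inf_right_comm _ 𝐂(zpowers y),
      inf_eq_left.2 ((inf_le_inf_right _ inf_le_left).trans (h2 y hy hyc))]) (hf.trans hs.der_le) hyK h.hs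
    (fun e => h.hs.one_lt.ne' ((e ▸ h.cRH).eq_one_of_dvd hsd)) (fun e => by
      obtain ⟨k, hk⟩ := h.hP.exists_card_eq
      refine h.hs.one_lt.ne' ((h.cHP.coprime_dvd_left hsd).eq_one_of_dvd ?_)
      rw [hk, e]
      refine dvd_pow_self p ?_
      rintro rfl
      exact hP0 (card_eq_one.1 hk))
    ((Nat.pow_le_pow_left (Nat.sub_le_sub_right (Nat.mul_le_mul_right _ h5) 1) 2).trans (h6.trans h7))
  refine hfin ((nres_le_comm J).trans ((commutator_mono (nres_le_of_prime (N := centQuo (centQuo D P) J) h.hp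
    (le_norm_centQuo hJK le_normalizer) fun l hl hlp j hj hjl => mem_centQuo_of hJK (hJK hj) fun g hg' => ?_) le_rfl).trans
    ((commutator_comm _ _).le.trans (commutator_centQuo_le hJK))))
  by_cases hjK : j ∈ centQuo D P
  · exact commutator_le_right_of_norm hJK (commutator_mem_commutator hg' hjK)
  have hcj := fc_coprime_of_ne hl h.hp hlp hjl h.hP
  have hj' := zpowers_le.2 hj
  obtain ⟨B, hB, h9, h10, h11⟩ := hsub l hl j hjl hcj (Coprime.coprime_card_of_le hcJ hj' le_rfl) (hJR hj) (hJP hj) (hJZ hj) hjK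
  have h12 := (Nat.pow_le_pow_iff_left two_ne_zero).1 (h10.trans (h11.trans h8))
  have hr := h.hR.pos
  have h13 : (centQuo D P).relIndex (zpowers j) = 2 := by
    refine le_antisymm (Nat.le_of_mul_le_mul_right (by omega) hr) (hl.two_le.trans h9)
  rw [h13] at h10
  have hBP : ⁅P, B⁆ ≤ P := commutator_le_left_of_norm (hB.trans (hj'.trans hJP))
  refine comm_mem_of_index_two hcj hs.der_le rad_le rfl (hj'.trans hJP) (hj'.trans hJD) ?_
    (mul_self_mem_of_index_two (H := (centQuo D P).subgroupOf (zpowers j)) h13 ⟨j, mem_zpowers j⟩) (hJP hg') (hJD hg')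
  refine le_trans ?_ (sup_le_sup_left (commutator_mono le_rfl hB) _)
  rw [← quo_le_quo_iff hPD (hBP.trans hPD)]
  refine (PGrp.eq_of_le_of_card_le (mim_mono _ hBP) ?_).ge
  rw [card_quo hPD, card_quo (hBP.trans hPD)]
  exact h8.trans h10

end Cfsg.Lib.Tur
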