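import Cfsg.Agent.Lib.Tur.F

/-! Structure of critical groups and passage to the next level of the tower. -/

set_option autoImplicit false
set_option linter.unusedSectionVars false

namespace Cfsg.Lib.Tur
open Subgroup Cfsg.Lib.Core Cfsg.Lib.Amalg Cfsg.Lib.BG1 Cfsg.Lib.Hall Cfsg.Lib.SigC
open scoped commutatorElement IsMulCommutative

variable {G : Type*} [Group G] [Finite G] {A B D E H J K L M N P Q R S T U V W X Y Z Z0 : Subgroup G}
  {Ω : Set (Subgroup G)} {p q r l s n : ℕ}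

theorem nresN_le_sup (n : ℕ) (hn : L ≤ 𝐍(N)) (hX : X ≤ L) (h : L ≤ N ⊔ X) : nresN n L ≤ N ⊔ nresN n X := by
  rw [← quo_le_quo_iff ((nresN_le n L).trans hn) ((nresN_le n X).trans (hX.trans hn)), mim_nresN _ n hn,
    mim_nresN _ n (hX.trans hn)]
  exact nresN_mono n ((quo_le_quo_iff hn (hX.trans hn)).2 h)

structure Str (p s n : ℕ) (L P H R : Subgroup G) : Prop where
  hp : p.Prime
  hs : s.Prime
  ne : s ≠ p
  hP : IsPGroup p P
  hH : IsPGroup s H
  hPL : P ≤ L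
  hLP : L ≤ 𝐍(P)
  hRP : R ≤ 𝐍(P)
  hHL : H ≤ nresN n L
  hRH : R ≤ 𝐍(H)
  sup : P ⊔ (L ⊓ 𝐍(H)) = L
  hPH : ⁅P, H⁆ = P
  h2 : ⁅P, P⁆ ≤ 𝐂(P)
  hHZ : H ≤ 𝐂(⁅P, P⁆)
  min : ∀ S < P, L ≤ 𝐍(S) → R ≤ 𝐍(S) → S ≤ ⁅P, P⁆
  top : nresN (n + 1) (L ⊓ 𝐍(H)) = ⊥
  ne0 : P ≠ ⊥

theorem exists_str (hs : Group.IsSolvable L) (hRL : R ≤ 𝐍(L)) (hc : (Nat.card R).Coprime (Nat.card L))
    (hne : nresN (n + 1) L ≠ ⊥) (crit : ∀ X < L, R ≤ 𝐍(X) → nresN (n + 1) X = ⊥) : ∃ p s P H, Str p s n L P H R := by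
  set M := nresN n L with hM
  set P0 := nresN (n + 1) L with hP0
  have hML : M ≤ L := nresN_le n L
  have hPM : P0 ≤ M := nres_le M
  have hnM : ∀ X, X ≤ 𝐍(L) → X ≤ 𝐍(M) := fun X => le_norm_nresN n
  have hnP : ∀ X, X ≤ 𝐍(L) → X ≤ 𝐍(P0) := fun X => le_norm_nresN (n + 1)
  have hL0 : L ≠ ⊥ := fun e => hne (le_bot_iff.1 ((nresN_le _ L).trans e.le))
  have hnil : Group.IsNilpotent P0 := by
    rw [← nres_eq_bot_iff]
    change nresN (n + 1 + 1) L = ⊥
    rw [nresN_succ']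
    exact crit _ ((nres_le_lcs L 1).trans_lt (der_lt_of_solvable hs hL0)) (le_norm_nresN 1 hRL)
  obtain ⟨p, hp, hO⟩ := exists_pCoreOf_ne_bot (solvable_of_nilpotent hnil) hne
  haveI := Fact.mk hp
  set O := 𝐎[p](P0) with hOd
  have hOP : O ≤ P0 := piCoreOf_le' _ _
  have hOp : IsPGroup p O := pgroup_pCoreOf hp _
  have hnO : ∀ X, X ≤ 𝐍(L) → X ≤ 𝐍(O) := fun X hX => le_norm_piCoreOf _ (hnP X hX)
  have hMO := hML.trans (hnO L le_normalizer)
  have hsM := solvable_of_le hML hs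
  have hcM := Coprime.coprime_card_of_le hc le_rfl hML
  obtain ⟨s, hsp, hs', H, hH, hRH, hHO⟩ : ∃ s : ℕ, s ≠ p ∧ s.Prime ∧ ∃ H, Syl s H M ∧ R ≤ 𝐍(H) ∧ ¬ H ≤ 𝐂(O) := by
    by_contra hcon
    push Not at hcon
    have hMC := hMO.trans (PGrp.normalizer_le_normalizer_centralizer' O)
    have h1 : IsPGroup p (quo 𝐂(O) M) := pgroup_quo hp fun l hl hlp y hy hyl => by
      haveI := Fact.mk hl
      obtain ⟨H, hH, hRH⟩ := coprime_sylow_exists l (hnM R hRL) hcM (Or.inr hsM)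
      obtain ⟨g, hg, e⟩ := hH.exists_le_conj hyl (zpowers_le.2 hy)
      exact cj_le_of_le_of_mem_normalizer (hcon l hlp hl H hH hRH) (hMC hg) (e (mem_zpowers y))
    obtain ⟨S, hS, -⟩ := coprime_sylow_exists p (hnM R hRL) hcM (Or.inr hsM)
    have h2 := (quo_le_quo_iff hMC (hS.le.trans hMC)).1 ((syl_mim _ hS hMC).eq_of_isPGroup h1).ge
    have hSO := hS.le.trans hMO
    have h3 : ⁅O, M⁆ ≤ ⁅O, S⁆ := (commutator_mono le_rfl h2).trans (comm_sup_le (le_norm_commutator_left _ _)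
      (le_norm_of_le_cent (centralizer_le (commutator_le_left_of_norm hSO))) (le_norm_commutator_right _ _)
      (comm_bot_le' le_rfl) le_rfl)
    have hO' : M ≤ 𝐍(𝐎'[p](P0)) := le_norm_piCoreOf _ (hML.trans (hnP L le_normalizer))
    have h4 : M ≤ 𝐍(⁅O, M⁆ ⊔ 𝐎'[p](P0)) := le_normalizer_sup (le_norm_commutator_right _ _) hO'
    have h5 : P0 ≤ ⁅O, M⁆ ⊔ 𝐎'[p](P0) := (nres_le_comm M).trans ((commutator_mono
      (piCoreOf_sup_compl_of_nilpotent {p} hnil).ge le_rfl).trans (sup_comm_le h4 ((hOP.trans hPM).trans h4)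
      (((piCoreOf_le' _ _).trans hPM).trans h4) le_sup_left ((commutator_le_left_of_norm hO').trans le_sup_right)))
    have h6 := le_inf (hOP.trans h5) le_rfl
    rw [sup_inf_of_le_normalizer (commutator_le_left_of_norm hMO) ((commutator_le_right_of_norm
      ((hOP.trans hPM).trans le_normalizer)).trans hO'), inf_comm, piCoreOf_inf_compl, sup_bot_eq] at h6
    exact (Core.commutator_lt_of_isPGroup hOp hS.isPGroup hSO hO).not_ge (h6.trans h3)
  haveI := Fact.mk hs'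
  have hLP0 := hnP L le_normalizer
  have hHL := hH.le.trans hML
  have h1 : L ≤ 𝐍(P0 ⊔ H) := by
    refine le_norm_of_quo hLP0 (hHL.trans hLP0) ?_
    have h2 := syl_mim (qmk P0) hH (hML.trans hLP0)
    have h3 : Group.IsNilpotent (quo P0 M) := nres_eq_bot_iff.1
      ((mim_nresN (qmk P0) 1 (hML.trans hLP0)).symm.trans (quo_self _))
    rw [← h2.eq_of_le _ (le_piCoreOf_of_nil h3 h2.le ((isPGroup_iff_isPiNumber hs').1 h2.isPGroup)) (piCoreOf_le' _ _)
      (pgroup_pCoreOf hs' _)]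
    exact le_norm_piCoreOf _ (mim_norm _ (hnM L le_normalizer))
  set Y := L ⊓ 𝐍(H) with hY
  have hHY : H ≤ Y := le_inf hHL le_normalizer
  have hRY : R ≤ 𝐍(Y) := le_normalizer_inf hRL (hRH.trans le_normalizer)
  have h2 : L ≤ P0 ⊔ Y := ((hH.of_le le_sup_right (sup_le hPM hH.le)).frattini (sup_le (hPM.trans hML) hHL) h1).ge.trans
    (sup_le (sup_le_sup_left hHY _) le_sup_right)
  obtain ⟨P, hPO, hYP, hHP, hmin⟩ := fb_exists_min (P := Y ⊔ R) (sup_le (inf_le_left.trans (hnO L le_normalizer))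
    (hnO R hRL)) hHO
  have hPp := hOp.to_le hPO
  have hcH := fc_coprime_of_ne hs' hp hsp hH.isPGroup hPp
  obtain ⟨h3, -, h4, h5⟩ := fb_min_props (nilpotent_of_pgroup hp hPp) (hHY.trans le_sup_left) (sup_le inf_le_right hRH)
    hYP hcH hHP hmin
  have hP0' : P ≠ ⊥ := by rintro rfl; exact hHP (le_cent_bot H)
  have hPL : P ≤ L := (hPO.trans hOP).trans (hPM.trans hML)
  have hYP' := le_sup_left.trans hYP
  set LY := nresN n Y
  have hLY : LY ≤ Y := nresN_le n Y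
  have hLYM : LY ≤ M := nresN_mono n inf_le_left
  have h6 : H ≤ (H ⊓ LY) ⊔ (P0 ⊓ H) := by
    have h7 := syl_mim (qmk P0) ((hH.of_le (le_inf hH.le hHY) inf_le_left).inf_normal (le_inf hLYM hLY)
      (inf_le_right.trans (le_norm_nresN n le_normalizer))) ((hLYM.trans hML).trans hLP0)
    rw [← sup_inf_of_le_normalizer inf_le_left ((inf_le_left.trans hHL).trans hLP0), sup_comm]
    refine le_inf ((quo_le_quo_iff (hHL.trans hLP0) ((inf_le_left.trans hHL).trans hLP0)).1 (h7.eq_of_le _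
      (mim_mono _ inf_le_left) ?_ (isPGroup_mim _ hH.isPGroup)).le) le_rfl
    exact (quo_le_quo_iff (hHL.trans hLP0) ((hLYM.trans hML).trans hLP0)).2 (hH.le.trans (nresN_le_sup n hLP0 inf_le_left h2))
  have h7 : P ≤ ⁅P, LY⁆ := by
    have h8 : P0 ⊓ H ≤ 𝐂(P) := le_cent_of_coprime_of_nilpotent hnil inf_le_left (hPO.trans hOP)
      (Coprime.coprime_card_of_le hcH inf_le_right le_rfl)
    exact h3.ge.trans ((commutator_mono le_rfl h6).trans (comm_sup_le (le_norm_commutator_left _ _)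
      (inf_le_right.trans (le_norm_commutator_right _ _)) (le_norm_of_le_cent (h8.trans (centralizer_le
        (commutator_le_left_of_norm (hLY.trans hYP'))))) (commutator_mono le_rfl inf_le_right) (comm_bot_le' h8)))
  have h8 : P ⊔ Y = L := by
    refine (sup_le hPL inf_le_left).eq_or_lt.resolve_right fun e => hP0' (le_bot_iff.1 (le_trans ?_
      (crit _ e (le_normalizer_sup (le_sup_right.trans hYP) hRY)).le))
    have h9 := h7.trans (commutator_mono le_rfl (nresN_mono n (le_sup_right : Y ≤ P ⊔ Y)))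
    exact le_nres (h9.trans (commutator_le_right_of_norm (le_sup_left.trans (le_norm_nresN n le_normalizer)))) h9
  have hb := Coprime.inf_eq_bot_of_coprime_card hcH
  refine ⟨p, s, P, H, hp, hs', hsp, hPp, hH.isPGroup, hPL, h8.ge.trans (sup_le le_normalizer hYP'), le_sup_right.trans hYP,
    hH.le, hRH, h8, h3, h4, h5, fun S hS h9 h10 => ?_, crit _ (lt_of_le_of_ne inf_le_left fun e => hP0' ?_) hRY, hP0'⟩
  · exact fe_cent_le (hHY.trans hYP') hcH h3 le_rfl (Subgroup.commutator_le_self P) (le_norm_der (hHY.trans hYP')) hS.le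
      (comm_bot_le' (hmin S hS (sup_le (inf_le_left.trans h9) h10)))
  · rw [eq_bot_iff, ← hb]
    exact le_inf le_rfl (h3.ge.trans (commutator_le_right_of_norm (hPL.trans (e.ge.trans inf_le_right))))

theorem nil_coprime (hq : q.Prime) (hV : IsPGroup q V) (hV0 : V ≠ ⊥) (hLV : L ≤ 𝐍(V)) (hRV : R ≤ 𝐍(V)) (hf : L ⊓ 𝐂(V) = ⊥)
    (irr : ∀ W ≤ V, L ≤ 𝐍(W) → R ≤ 𝐍(W) → W = ⊥ ∨ W = V) (hN : N ≤ L) (hLN : L ≤ 𝐍(N)) (hRN : R ≤ 𝐍(N))
    (hn : Group.IsNilpotent N) : (Nat.card N).Coprime (Nat.card V) := by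
  haveI := Fact.mk hq
  refine (coprime_of_isPGroup_of_not_dvd hq hV fun hd => ?_).symm
  have h1 : 𝐎[q](N) ≤ L := (piCoreOf_le' _ _).trans hN
  have h2 := (irr _ inf_le_left (le_normalizer_inf hLV ((le_norm_piCoreOf _ hLN).trans
    (PGrp.normalizer_le_normalizer_centralizer' _))) (le_normalizer_inf hRV ((le_norm_piCoreOf _ hRN).trans
    (PGrp.normalizer_le_normalizer_centralizer' _)))).resolve_left
    (Core.inf_centralizer_ne_bot_of_isPGroup hV (pgroup_pCoreOf hq N) (h1.trans hLV) hV0)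
  exact (syl_pCoreOf_of_nilpotent hn).ne_bot hd (le_bot_iff.1
    ((le_inf h1 (BG1.le_cent_symm (h2.ge.trans inf_le_right))).trans hf.le))

structure Dat (q n : ℕ) (L V R : Subgroup G) (Ω : Set (Subgroup G)) : Prop where
  hq : q.Prime
  hR : (Nat.card R).Prime
  hV : IsPGroup q V
  comm : IsMulCommutative V
  sol : Group.IsSolvable L
  hLV : L ≤ 𝐍(V)
  hRV : R ≤ 𝐍(V)
  hRL : R ≤ 𝐍(L)
  cL : (Nat.card R).Coprime (Nat.card L)
  cV : (Nat.card R).Coprime (Nat.card V)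
  faith : L ⊓ 𝐂(V) = ⊥
  irr : ∀ W ≤ V, L ≤ 𝐍(W) → R ≤ 𝐍(W) → W = ⊥ ∨ W = V
  ne : nresN n L ≠ ⊥
  crit : ∀ X < L, R ≤ 𝐍(X) → nresN n X = ⊥
  om : Om (L ⊔ R) V Ω

/-- the kernel of the next level -/
def ker0 (L P H : Subgroup G) : Subgroup G := L ⊓ 𝐍(H) ⊓ centQuo ⁅P, P⁆ P

namespace Str
variable (h : Str p s n L P H R)
include h

theorem hHL' : H ≤ L := h.hHL.trans (nresN_le n L)

theorem hHP : H ≤ 𝐍(P) := h.hHL'.trans h.hLP

theorem cHP : (Nat.card H).Coprime (Nat.card P) := fc_coprime_of_ne h.hs h.hp h.ne h.hH h.hP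

theorem not_le : ¬ P ≤ ⁅P, P⁆ := (der_lt_of_solvable (solvable_of_pgroup h.hp h.hP) h.ne0).not_ge

theorem inf_le : P ⊓ 𝐍(H) ≤ ⁅P, P⁆ :=
  fe_cent_le h.hHP h.cHP h.hPH le_rfl (Subgroup.commutator_le_self P) (le_norm_der h.hHP) inf_le_left
    ((le_inf ((commutator_mono inf_le_left le_rfl).trans h.hPH.le) (commutator_le_right_of_norm inf_le_right)).trans
      ((Coprime.inf_eq_bot_of_coprime_card h.cHP).le.trans bot_le))

theorem der_le : ⁅P, P⁆ ≤ ker0 L P H :=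
  le_inf (le_inf ((Subgroup.commutator_le_self P).trans h.hPL) (le_norm_of_le_cent (BG1.le_cent_symm h.hHZ)))
    (self_le_centQuo _ _)

theorem comm_ker : ⁅P, ker0 L P H⁆ ≤ ⁅P, P⁆ := commutator_le_of_le_centQuo (le_norm_der le_normalizer) inf_le_right

theorem normP : P ≤ 𝐍(ker0 L P H) :=
  le_norm_of_commutator_le ((commutator_comm _ _).le.trans (h.comm_ker.trans h.der_le))

theorem normY : L ⊓ 𝐍(H) ≤ 𝐍(ker0 L P H) := le_normalizer_inf le_normalizer
  (inf_le_left.trans (le_norm_centQuo (le_norm_der h.hLP) h.hLP))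

theorem normL : L ≤ 𝐍(ker0 L P H) := h.sup.ge.trans (sup_le h.normP h.normY)

theorem normRY (hRL : R ≤ 𝐍(L)) : R ≤ 𝐍(L ⊓ 𝐍(H)) := le_normalizer_inf hRL (h.hRH.trans le_normalizer)

theorem normR (hRL : R ≤ 𝐍(L)) : R ≤ 𝐍(ker0 L P H) :=
  le_normalizer_inf (h.normRY hRL) (le_norm_centQuo (le_norm_der h.hRP) h.hRP)

theorem ker_inf : P ⊓ ker0 L P H ≤ ⁅P, P⁆ := (inf_le_inf_left _ (inf_le_left.trans inf_le_right)).trans h.inf_le

theorem quo_le_iff (hX : X ≤ P) (hA : ⁅P, P⁆ ≤ A) (hA' : A ≤ P) : quo (ker0 L P H) X ≤ quo (ker0 L P H) A ↔ X ≤ A := by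
  refine ⟨fun e => ?_, mim_mono _⟩
  have h1 := le_inf ((quo_le_quo_iff (hX.trans h.normP) (hA'.trans h.normP)).1 e) hX
  rw [sup_comm, sup_inf_of_le_normalizer hA' (hA'.trans h.normP), inf_comm] at h1
  exact h1.trans (sup_le le_rfl (h.ker_inf.trans hA))

theorem exp {x : G} (hx : x ∈ P) : x ^ p ∈ ⁅P, P⁆ := by
  haveI := Fact.mk h.hp
  exact h.min _ (frattiniOf_lt h.ne0) (h.hLP.trans (normalizer_le_normalizer_frattiniOf P))
    (h.hRP.trans (normalizer_le_normalizer_frattiniOf P)) (pow_mem_frattiniOf h.hP hx)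

theorem next (hR : (Nat.card R).Prime) (hs : Group.IsSolvable L) (hRL : R ≤ 𝐍(L)) (hc : (Nat.card R).Coprime (Nat.card L))
    (crit : ∀ X < L, R ≤ 𝐍(X) → nresN (n + 1) X = ⊥) (hle : ∀ A ∈ Ω, ⁅P, P⁆ ≤ A ∧ A ≤ P)
    (inv : ∀ A ∈ Ω, ∀ g ∈ 𝐍(P), g ∈ L ⊔ R → cj g A ∈ Ω) (sep : ∀ x ∈ P, (∀ A ∈ Ω, x ∈ A) → x ∈ ⁅P, P⁆) :
    Dat p n (quo (ker0 L P H) (L ⊓ 𝐍(H))) (quo (ker0 L P H) P) (quo (ker0 L P H) R)
      ((fun A => quo (ker0 L P H) A) '' Ω) := by
  set N := ker0 L P H with hN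
  set Y := L ⊓ 𝐍(H) with hY
  have hNY : N ≤ Y := inf_le_left
  have hYL : Y ≤ L := inf_le_left
  have hPN : P ≤ 𝐍(N) := h.normP
  have hYN : Y ≤ 𝐍(N) := h.normY
  have hRN : R ≤ 𝐍(N) := h.normR hRL
  have hYP := hYL.trans h.hLP
  have hV := isPGroup_mim (qmk N) h.hP
  have hV0 : quo N P ≠ ⊥ := fun e => h.not_le ((le_inf le_rfl ((quo_eq_bot_iff hPN).1 e)).trans h.ker_inf)
  have hf : quo N Y ⊓ 𝐂(quo N P) = ⊥ := by
    rw [← quo_quoPre _ 𝐂(_), ← mim_inf (mpre_le _ _) (mker_le_mpre _ _), quo_eq_bot_iff (inf_le_left.trans hYN)]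
    refine le_inf inf_le_left (le_centQuo (le_norm_der le_normalizer) (le_norm_der (inf_le_left.trans hYP)) ?_)
    exact (le_inf (commutator_le_left_of_norm (inf_le_left.trans hYP))
      (commutator_le_of_le_centQuo hPN inf_le_right)).trans h.ker_inf
  have hi : ∀ W ≤ quo N P, quo N Y ≤ 𝐍(W) → quo N R ≤ 𝐍(W) → W = ⊥ ∨ W = quo N P := fun W hW h1 h2 => by
    have h3 : ⁅P, P⁆ ≤ P ⊓ quoPre N W := le_inf (Subgroup.commutator_le_self P) (h.der_le.trans (le_quoPre _ _))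
    have h4 : quo N (P ⊓ quoPre N W) = W := (mim_inf_mpre _ _ _).trans (inf_eq_right.2 hW)
    rcases (inf_le_left : P ⊓ quoPre N W ≤ P).eq_or_lt with e | e
    · exact Or.inr (by rw [← h4, e])
    · refine Or.inl (h4.symm.trans ((quo_eq_bot_iff (inf_le_left.trans hPN)).2 ((h.min _ e (h.sup.ge.trans (sup_le
        (le_norm_of_der_le h3 inf_le_left) (le_normalizer_inf hYP (le_norm_mpre hYN h1))))
        (le_normalizer_inf h.hRP (le_norm_mpre hRN h2))).trans h.der_le)))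
  refine ⟨h.hp, by rwa [fd_card_quo hRN (Coprime.coprime_card_of_le hc le_rfl (hNY.trans hYL))], hV,
    (isMulCommutative_quo_iff hPN).2 h.der_le, isSolvable_mim _ (solvable_of_le hYL hs), mim_norm _ hYP, mim_norm _ h.hRP,
    mim_norm _ (h.normRY hRL), coprime_card_mim _ (Coprime.coprime_card_of_le hc le_rfl hYL),
    coprime_card_mim _ (Coprime.coprime_card_of_le hc le_rfl h.hPL), hf, hi, fun e => ?_, fun X hX hRX => ?_, ?_, ?_, ?_⟩
  · rw [← mim_nresN _ n hYN, quo_eq_bot_iff ((nresN_le _ _).trans hYN)] at e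
    exact h.not_le (h.hPH.ge.trans (commutator_le_of_le_centQuo (le_norm_der le_normalizer) (h.hHL.trans
      ((nresN_le_sup n h.hLP hYL h.sup.ge).trans (sup_le (le_centQuo (le_norm_der le_normalizer)
        (le_norm_der le_normalizer) le_rfl) (e.trans inf_le_right))))))
  · have h1 : quoPre N X ≤ Y := quoPre_le_of_le_quo hYN hNY hX.le
    have h2 : P ⊔ quoPre N X < L := lt_of_le_of_ne (sup_le h.hPL (h1.trans hYL)) fun e => hX.not_ge (by
      rw [← quo_quoPre N X]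
      refine mim_mono _ ((le_inf (hYL.trans e.ge) le_rfl).trans ?_)
      rw [sup_comm, sup_inf_of_le_normalizer h1 (h1.trans hYP)]
      exact sup_le le_rfl (((inf_le_inf_left _ inf_le_right).trans h.inf_le).trans (h.der_le.trans (le_quoPre _ _))))
    have h3 := isNilpotent_mim (qmk N) (nres_eq_bot_iff.1 (crit _ h2 (le_normalizer_sup h.hRP (le_norm_mpre hRN hRX))))
    have h4 := nil_coprime h.hp hV hV0 (mim_norm _ hYP) (mim_norm _ h.hRP) hf hi (nresN_le n _)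
      (le_norm_nresN n le_normalizer) (le_norm_nresN n (mim_norm _ (h.normRY hRL))) (nres_eq_bot_iff.1 (by
        change nresN (n + 1) _ = ⊥
        rw [← mim_nresN _ _ hYN, h.top, mim_bot]))
    have h5 : nresN n X ≤ quo N Y := (nresN_le n X).trans hX.le
    have h6 : nresN n X = quo N (nresN n (quoPre N X)) := by rw [mim_nresN _ n (h1.trans hYN), quo_quoPre]
    have h7 : nresN n (quoPre N X) ≤ nresN n (P ⊔ quoPre N X) := nresN_mono n le_sup_right
    have h8 := h5.trans (mim_norm _ hYP)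
    have h9 : ⁅quo N P, nresN n X⁆ = ⊥ := by
      refine Core.eq_bot_of_le_commutator (hL := h3) ?_ (h6.le.trans (mim_mono _ h7)) (Coprime.commutator_commutator_eq h8
        (Coprime.coprime_card_of_le h4 (nresN_mono n hX.le) le_rfl)).ge
      rw [h6, ← mim_commutator hPN (((nresN_le n _).trans h1).trans hYN)]
      exact mim_mono _ ((commutator_mono le_rfl h7).trans (commutator_le_right_of_norm
        (le_sup_left.trans (le_norm_nresN n le_normalizer))))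
    exact le_bot_iff.1 ((le_inf h5 (BG1.le_cent_symm (commutator_eq_bot_iff_le_centralizer.1 h9))).trans hf.le)
  · rintro _ ⟨A, hA, rfl⟩
    exact mim_mono _ (hle A hA).2
  · rintro _ ⟨A, hA, rfl⟩ g hg
    rw [← mim_sup hYN hRN] at hg
    obtain ⟨g, hgN, hg', rfl⟩ := mem_mim.1 hg
    exact ⟨_, inv A hA g (sup_le hYP h.hRP hg') (sup_le_sup_right hYL R hg'), mim_cj hgN A⟩
  · intro v hv hv'
    obtain ⟨x, hxN, hx, rfl⟩ := mem_mim.1 hv
    refine (qmk_eq_one_iff _).2 (h.der_le (sep x hx fun A hA => zpowers_le.1 ((h.quo_le_iff (zpowers_le.2 hx)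
      (hle A hA).1 (hle A hA).2).1 ?_)))
    rw [mim_zpowers hxN, zpowers_le]
    exact hv' _ ⟨A, hA, rfl⟩

end Str

end Cfsg.Lib.Tur
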