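import Cfsg.Agent.Lib.Tur.G

/-! The main induction along the tower and Turull's bound on the Fitting height. -/

set_option autoImplicit false
set_option linter.unusedSectionVars false

namespace Cfsg.Lib.Tur
open Subgroup Cfsg.Lib.Core Cfsg.Lib.Amalg Cfsg.Lib.BG1 Cfsg.Lib.Hall Cfsg.Lib.SigC
open scoped commutatorElement IsMulCommutative

universe u

section
variable {G : Type*} [Group G] [Finite G] {A B D E H J K L M N P Q R S T U V W X Y Z Z0 : Subgroup G}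
  {Ω : Set (Subgroup G)} {p q r l s n m : ℕ}

/-- the conclusion of the induction -/
def Concl (q : ℕ) : ℕ → Subgroup G → Subgroup G → Subgroup G → Set (Subgroup G) → Prop
  | 0, _, _, _, _ => True
  | 1, _, V, R, Ω => ¬ V ⊓ 𝐂(R) ≤ V0 V R Ω
  | n + 2, L, V, R, Ω => ∃ y ∈ nresN n (L ⊓ 𝐂(R)), (orderOf y).Coprime q ∧ ¬ ⁅V ⊓ 𝐂(R), zpowers y⁆ ≤ V0 V R Ω

theorem comm_eq_of (hp : p.Prime) (hP : IsPGroup p P) (hH : H ≤ N ⊔ J) (hN : N ≤ centQuo ⁅P, P⁆ P) (hJ : J ≤ 𝐍(P))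
    (h : ⁅P, H⁆ = P) : ⁅P, J⁆ = P := by
  have h1 : ⁅P, J⁆ ≤ P := commutator_le_left_of_norm hJ
  have h2 : ⁅P, J⁆ ⊔ ⁅P, P⁆ ≤ P := sup_le h1 (Subgroup.commutator_le_self P)
  have h3 : ⁅P, N⁆ ≤ ⁅P, J⁆ ⊔ ⁅P, P⁆ :=
    (commutator_le_of_le_centQuo (le_norm_der le_normalizer) hN).trans le_sup_right
  exact eq_of_sup_der hp hP h1 (h.ge.trans ((commutator_mono le_rfl hH).trans (comm_sup_le
    (le_norm_of_der_le le_sup_right h2) (fe_norm_of_der h3 h2) (fe_norm_of_der le_sup_left h2) h3 le_sup_left)))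

theorem exists_pow_coprime (hp : p.Prime) (y : G) : ∃ a : ℕ, (orderOf (y ^ p ^ a)).Coprime p := by
  obtain ⟨a, k, hk, e⟩ := Nat.exists_eq_pow_mul_and_not_dvd (orderOf_pos y).ne' p hp.ne_one
  refine ⟨a, ((hp.coprime_iff_not_dvd.2 hk).symm).coprime_dvd_left (orderOf_dvd_of_pow_eq_one ?_)⟩
  rw [← pow_mul, ← e, pow_orderOf_eq_one]

namespace Str
variable (h : Str p s n L P H R)
include h

theorem self_le_kc : P ≤ centQuo ⁅P, P⁆ P :=
  le_centQuo (le_norm_der le_normalizer) (le_norm_der le_normalizer) le_rfl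

theorem le_sup_of (hs : Group.IsSolvable L) (hRL : R ≤ 𝐍(L)) (hc : (Nat.card R).Coprime (Nat.card L))
    (hK : ⁅L, R⁆ ≤ centQuo ⁅P, P⁆ P) : L ≤ (L ⊓ centQuo ⁅P, P⁆ P) ⊔ (L ⊓ 𝐂(R)) :=
  (Coprime.commutator_sup_centralizer hRL hc (Or.inr hs)).ge.trans
    (sup_le_sup_right (le_inf (commutator_le_left_of_norm hRL) hK) _)

theorem alt1 (hs : Group.IsSolvable L) (hRL : R ≤ 𝐍(L)) (hc : (Nat.card R).Coprime (Nat.card L))
    (hK : ⁅L, R⁆ ≤ centQuo ⁅P, P⁆ P) : ⁅P, nresN n (L ⊓ 𝐂(R))⁆ = P :=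
  comm_eq_of h.hp h.hP (h.hHL.trans (nresN_le_sup n (le_normalizer_inf le_normalizer
    (le_norm_centQuo (le_norm_der h.hLP) h.hLP)) inf_le_left (h.le_sup_of hs hRL hc hK))) inf_le_right
    ((nresN_le _ _).trans (inf_le_left.trans h.hLP)) h.hPH

theorem alt2 (hs : Group.IsSolvable L) (hRL : R ≤ 𝐍(L)) (hc : (Nat.card R).Coprime (Nat.card L))
    (crit : ∀ X < L, R ≤ 𝐍(X) → nresN (n + 1) X = ⊥) (hPR : P ≤ 𝐂(R)) : L ≤ 𝐂(R) := by
  have h1 : ⁅⁅L, R⁆, P⁆ = ⊥ := commutator_commutator_eq_bot_of_rotate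
    (by rw [(comm_bot_le' hPR : ⁅R, P⁆ ≤ ⊥).antisymm bot_le, commutator_bot_left])
    (eq_bot_iff.2 ((commutator_mono (commutator_le_left_of_norm h.hLP) le_rfl).trans (comm_bot_le hPR)))
  have h2 := h.alt1 hs hRL hc (le_centQuo (le_norm_der le_normalizer)
    ((commutator_le_left_of_norm hRL).trans (le_norm_der h.hLP)) ((commutator_comm _ _).le.trans (h1.le.trans bot_le)))
  have h3 : P ≤ nresN (n + 1) (L ⊓ 𝐂(R)) := le_nres (h2.ge.trans (commutator_le_right_of_norm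
    ((le_inf h.hPL hPR).trans (le_norm_nresN n le_normalizer)))) h2.ge
  refine ((inf_le_left : L ⊓ 𝐂(R) ≤ L).eq_or_lt.resolve_right fun e => h.ne0 ?_).ge.trans inf_le_right
  exact le_bot_iff.1 (h3.trans (crit _ e (le_norm_of_le_cent (BG1.le_cent_symm inf_le_right))).le)

theorem alt3 (hRL : R ≤ 𝐍(L)) (hY : quo (ker0 L P H) (L ⊓ 𝐍(H)) ≤ 𝐂(quo (ker0 L P H) R)) :
    ⁅L ⊓ 𝐍(H), R⁆ ≤ ker0 L P H := by
  rw [← quo_eq_bot_iff ((commutator_le_left_of_norm (h.normRY hRL)).trans h.normY), mim_commutator h.normY (h.normR hRL)]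
  exact commutator_eq_bot_iff_le_centralizer.2 hY

theorem quo_cent (hs : Group.IsSolvable L) (hRL : R ≤ 𝐍(L)) (hc : (Nat.card R).Coprime (Nat.card L)) (hX : X ≤ L)
    (hRX : R ≤ 𝐍(X)) : quo (ker0 L P H) (X ⊓ 𝐂(R)) = quo (ker0 L P H) X ⊓ 𝐂(quo (ker0 L P H) R) :=
  BG1.quo_inf_cent (h.normR hRL) (hX.trans h.normL) hRX
    (Coprime.coprime_card_of_le hc le_rfl (inf_le_left.trans inf_le_left))
    (Or.inr (solvable_of_le (inf_le_left.trans inf_le_left) hs))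

end Str

theorem Str.trans (h : Str p s (m + 1) L P H R) (hs : Group.IsSolvable L) (hRL : R ≤ 𝐍(L))
    (hc : (Nat.card R).Coprime (Nat.card L)) {Ω' : Set (Subgroup (QG (ker0 L P H)))}
    (hC : Concl p (m + 1) (quo (ker0 L P H) (L ⊓ 𝐍(H))) (quo (ker0 L P H) P) (quo (ker0 L P H) R) Ω') :
    ∃ X ≤ P, X ≤ nresN m (L ⊓ 𝐂(R)) ∧
      ¬ quo (ker0 L P H) X ≤ V0 (quo (ker0 L P H) P) (quo (ker0 L P H) R) Ω' := by
  have e1 := h.quo_cent hs hRL hc h.hPL h.hRP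
  cases m with
  | zero => exact ⟨P ⊓ 𝐂(R), inf_le_left, inf_le_inf_right _ h.hPL, by rw [e1]; exact hC⟩
  | succ k =>
    obtain ⟨y, hy, hyp, hy'⟩ := hC
    rw [← h.quo_cent hs hRL hc inf_le_left (h.normRY hRL), ← mim_nresN _ k (inf_le_left.trans h.normY)] at hy
    obtain ⟨y0, hyN, hy0, rfl⟩ := mem_mim.1 hy
    obtain ⟨a, ha⟩ := exists_pow_coprime h.hp y0
    have h1 : zpowers (y0 ^ p ^ a) ≤ nresN k (L ⊓ 𝐂(R)) :=
      zpowers_le.2 (pow_mem (nresN_mono k (inf_le_inf_right _ inf_le_left) hy0) _)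
    have h2 := h1.trans (nresN_le k _)
    have h3 : zpowers (y0 ^ p ^ a) ≤ 𝐍(P ⊓ 𝐂(R)) :=
      le_normalizer_inf (h2.trans (inf_le_left.trans h.hLP)) (h2.trans (inf_le_right.trans le_normalizer))
    refine ⟨⁅P ⊓ 𝐂(R), zpowers (y0 ^ p ^ a)⁆, (commutator_le_left_of_norm h3).trans inf_le_left,
      le_nres ((commutator_mono le_rfl h1).trans (commutator_le_right_of_norm
        ((inf_le_inf_right _ h.hPL).trans (le_norm_nresN k le_normalizer)))) ?_, fun e => hy' (le_trans ?_ e)⟩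
    · refine (Coprime.commutator_commutator_eq h3 ?_).ge.trans (commutator_mono le_rfl h1)
      haveI := Fact.mk h.hp
      rw [Nat.card_zpowers]
      exact Coprime.coprime_card_of_isPGroup (h.hP.to_le inf_le_left) ha
    · rw [mim_commutator (inf_le_left.trans h.normP) (zpowers_le.2 (pow_mem hyN _)), e1, mim_zpowers (pow_mem hyN _)]
      refine commutator_mono le_rfl (zpowers_le.2 ?_)
      have : (⟨y0 ^ p ^ a, pow_mem hyN _⟩ : 𝐍(ker0 L P H)) = ⟨y0, hyN⟩ ^ p ^ a := rfl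
      rw [this, map_pow, mem_zpowers_pow_iff]
      exact (hyp.symm.pow_left a).gcd_eq_one

theorem Dat.lev (d : Dat q (n + 1) L V R Ω) (h : Str p s n L P H R) (hT : T ≤ H) (hRT : R ≤ 𝐍(T)) (hPT : ⁅P, T⁆ = P) :
    Lev p s L P T V R := by
  have hV0 : V ≠ ⊥ := fun e => h.ne0 (le_bot_iff.1 ((le_inf h.hPL (e ▸ le_cent_bot P)).trans d.faith.le))
  refine ⟨h.hp, h.hs, d.hR, h.hP, h.hH.to_le hT, d.comm, h.hPL, h.hLP, d.hLV, d.hRV, h.hRP, hT.trans h.hHP, hRT,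
    Coprime.coprime_card_of_le d.cL le_rfl h.hPL, d.cV, nil_coprime d.hq d.hV hV0 d.hLV d.hRV d.faith d.irr h.hPL h.hLP
      h.hRP (nilpotent_of_pgroup h.hp h.hP), Coprime.coprime_card_of_le h.cHP hT le_rfl,
    Coprime.coprime_card_of_le d.cL le_rfl (hT.trans h.hHL'), h.h2, hT.trans h.hHZ, hPT, fun x hx => h.exp hx, ?_,
    le_bot_iff.1 ((inf_le_inf_right _ h.hPL).trans d.faith.le), fun X hX hX0 h1 h2 => ?_⟩
  · rcases (inf_le_left : P ⊓ 𝐂(P) ≤ P).eq_or_lt with e | e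
    · exact Or.inl (commutator_eq_bot_iff_le_centralizer.2 (e.ge.trans inf_le_right))
    · exact Or.inr (h.min _ e (le_normalizer_inf h.hLP (h.hLP.trans (PGrp.normalizer_le_normalizer_centralizer' _)))
        (le_normalizer_inf h.hRP (h.hRP.trans (PGrp.normalizer_le_normalizer_centralizer' _))))
  · refine (d.irr _ inf_le_left (le_normalizer_inf d.hLV (h1.trans (PGrp.normalizer_le_normalizer_centralizer' _)))
      (le_normalizer_inf d.hRV (h2.trans (PGrp.normalizer_le_normalizer_centralizer' _)))).resolve_right fun e => hX0 ?_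
    exact le_bot_iff.1 ((le_inf (hX.trans h.hPL) (BG1.le_cent_symm (e.ge.trans inf_le_right))).trans d.faith.le)

end

theorem main (n : ℕ) : ∀ (G : Type u) [Group G] [Finite G] (q : ℕ) (L V R : Subgroup G) (Ω : Set (Subgroup G)),
    Dat q n L V R Ω → L ≤ 𝐂(R) ∨ Concl q n L V R Ω := by
  induction n with
  | zero => exact fun _ _ _ _ _ _ _ _ _ => Or.inr trivial
  | succ n ih =>
  intro G _ _ q L V R Ω d
  obtain ⟨p, s, P, H, h⟩ := exists_str d.sol d.hRL d.cL d.ne d.crit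
  by_cases hPR : P ≤ 𝐂(R)
  · exact Or.inl (h.alt2 d.sol d.hRL d.cL d.crit hPR)
  have lev := d.lev h le_rfl h.hRH h.hPH
  have hΩL := d.om.mono (le_sup_left : L ≤ L ⊔ R)
  have hΩ := hΩL.mono h.hPL
  refine Or.inr ?_
  cases n with
  | zero => exact lev.lemC hΩ hPR
  | succ m =>
  by_contra hcon
  have hK : ∀ y ∈ nresN m (L ⊓ 𝐂(R)), (orderOf y).Coprime q → ⁅V ⊓ 𝐂(R), zpowers y⁆ ≤ V0 V R Ω := fun y hy hq => by
    by_contra e
    exact hcon ⟨y, hy, hq, e⟩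
  have hJ := nresN_le m (L ⊓ 𝐂(R))
  have hnx := h.next (Ω := OmP p V P) d.hR d.sol d.hRL d.cL d.crit (fun A hA => ⟨OmP.der_le h.h2 hA, OmP.le hA⟩)
    (fun A hA g hg hg' => OmP.conj hA (sup_le d.hLV d.hRV hg') hg) (fun x hx => lev.om_sep hx)
  rcases ih _ _ _ _ _ _ hnx with e | e
  · have hn : ∀ X, X ≤ 𝐍(P) → X ≤ 𝐍(centQuo ⁅P, P⁆ P) := fun X hX => le_norm_centQuo (le_norm_der hX) hX
    have h1 : ⁅L, R⁆ ≤ centQuo ⁅P, P⁆ P := (commutator_mono h.sup.ge le_rfl).trans (sup_comm_le (hn R h.hRP)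
      (hn P le_normalizer) (hn _ (inf_le_left.trans h.hLP)) ((commutator_le_left_of_norm h.hRP).trans h.self_le_kc)
      ((h.alt3 d.hRL e).trans inf_le_right))
    have h2 : ⁅P, H ⊓ 𝐂(R)⁆ = P := comm_eq_of h.hp h.hP (Coprime.commutator_sup_centralizer h.hRH lev.cRH
      (Or.inr (solvable_of_le h.hHL' d.sol))).ge ((commutator_mono h.hHL' le_rfl).trans h1) (inf_le_left.trans h.hHP) h.hPH
    have h3 : ⁅P, P⁆ ⊔ P ⊓ 𝐂(R) ≤ P := sup_le (Subgroup.commutator_le_self P) inf_le_left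
    have h4 : P ⊓ 𝐂(R) ≤ ⁅P, P⁆ := by
      refine le_sup_right.trans (h.min _ (lt_of_le_of_ne h3 fun e => hPR ?_) ((h.le_sup_of d.sol d.hRL d.cL h1).trans
        (sup_le (fe_norm_of_der ((commutator_le_of_le_centQuo (le_norm_der le_normalizer) inf_le_right).trans le_sup_left) h3)
        (le_normalizer_sup (le_norm_der (inf_le_left.trans h.hLP)) (le_normalizer_inf (inf_le_left.trans h.hLP)
          (inf_le_right.trans le_normalizer))))) (le_normalizer_sup (le_norm_der h.hRP)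
            (le_norm_of_le_cent (BG1.le_cent_symm inf_le_right))))
      exact (eq_of_sup_der h.hp h.hP inf_le_left (e.ge.trans (sup_comm _ _).le)).ge.trans inf_le_right
    exact (d.lev h inf_le_left (le_norm_of_le_cent (BG1.le_cent_symm inf_le_right)) h2).lemD d.hq d.hV hΩL inf_le_right h4
      h.ne0 (hJ.trans inf_le_left) (hJ.trans inf_le_right)
      (Coprime.coprime_card_of_le d.cL le_rfl (hJ.trans inf_le_left)).symm
      ((inf_le_inf_right _ h.hPL).trans (le_norm_nresN m le_normalizer)) (h.alt1 d.sol d.hRL d.cL h1) hK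
  · obtain ⟨X, hXP, hXJ, hX⟩ := h.trans d.sol d.hRL d.cL e
    have hXR := hXJ.trans (hJ.trans inf_le_right)
    haveI := d.comm
    have hV0 : V0 V R Ω ≤ V := inf_le_left
    have h1 : V ⊓ 𝐂(R) ≤ 𝐍(V0 V R Ω) := le_norm_of_le_cent (inf_le_left.trans
      ((le_centralizer_iff_isMulCommutative.2 d.comm).trans (centralizer_le hV0)))
    have h2 : X ≤ 𝐍(V0 V R Ω) := le_norm_V0 hΩ hXP (hXP.trans lev.hPV) (le_norm_of_le_cent hXR)
    have hV : V ≠ ⊥ := fun e => h.ne0 (le_bot_iff.1 ((le_inf h.hPL (e ▸ le_cent_bot P)).trans d.faith.le))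
    have h3 : ⁅V ⊓ 𝐂(R), X⁆ ≤ V0 V R Ω := commutator_le_of_le_centQuo h1 fun y hy => zpowers_le.1
      (le_centQuo h1 (zpowers_le.2 (h2 hy)) (hK y (hXJ hy) (by
        haveI := Fact.mk d.hq
        exact (lev.cPV.coprime_dvd_left (P.orderOf_dvd_natCard (hXP hy))).coprime_dvd_right
          (dvd_card_of_isPGroup_ne_bot d.hV hV))))
    refine hX fun v hv => mem_V0.2 ⟨mim_mono _ hXP hv, ?_⟩
    rintro _ ⟨A, hA, rfl⟩ hm
    refine mim_mono _ (lev.lemB hΩ hXP hXR h3 hA fun e => hm ?_) hv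
    rw [← mim_commutator h.normP (h.normR d.hRL)]
    exact mim_mono _ e

variable {G : Type*} [Group G] [Finite G] {K R : Subgroup G}

theorem turull (hR : (Nat.card R).Prime) (hs : Group.IsSolvable K) (hRK : R ≤ 𝐍(K))
    (hc : (Nat.card R).Coprime (Nat.card K)) {m : ℕ} (h0 : nresN m (K ⊓ 𝐂(R)) = ⊥) : nresN (m + 2) K = ⊥ := by
  by_contra hne
  obtain ⟨L, hL, ⟨hRL, h1⟩, hmin⟩ := Core.exists_minimal_le (fun X => R ≤ 𝐍(X) ∧ nresN (m + 2) X ≠ ⊥) ⟨hRK, hne⟩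
  have crit : ∀ X < L, R ≤ 𝐍(X) → nresN (m + 1 + 1) X = ⊥ := fun X hX hRX => by
    by_contra e
    exact hX.ne (hmin X ⟨hRX, e⟩ hX.le)
  have sol := solvable_of_le hL hs
  have cL := Coprime.coprime_card_of_le hc le_rfl hL
  have h2 : ∀ X ≤ L, nresN m (X ⊓ 𝐂(R)) = ⊥ := fun X hX =>
    le_bot_iff.1 ((nresN_mono m (inf_le_inf_right _ (hX.trans hL))).trans h0.le)
  obtain ⟨p, s, P, H, h⟩ := exists_str sol hRL cL h1 crit
  have hnx := h.next (Ω := {⁅P, P⁆}) hR sol hRL cL crit (by rintro _ rfl; exact ⟨le_rfl, Subgroup.commutator_le_self P⟩)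
    (by rintro _ rfl g hg -; exact cj_of_mem_normalizer (le_norm_der le_rfl hg)) (fun x _ hx => hx _ rfl)
  rcases main _ _ _ _ _ _ _ hnx with e | e
  · refine hnx.ne ?_
    rw [← inf_eq_left.2 e, ← h.quo_cent sol hRL cL inf_le_left (h.normRY hRL),
      ← mim_nresN _ _ (inf_le_left.trans h.normY), eq_bot_iff]
    exact (mim_mono _ ((nres_le _).trans (h2 _ inf_le_left).le)).trans (mim_bot _).le
  · obtain ⟨X, -, hX, hX'⟩ := h.trans sol hRL cL e
    rw [le_bot_iff.1 (hX.trans (h2 L le_rfl).le), mim_bot] at hX'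
    exact hX' bot_le

end Cfsg.Lib.Tur
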